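import Cfsg.Agent.UnitaryThree22.Degrees
import Cfsg.Agent.Lib.Unitary.Simple
import Cfsg.Agent.Lib.Unitary.Center
import Mathlib.GroupTheory.SpecificGroups.Cyclic

/-!
# The configuration inside `SU₃(3)`
-/

set_option autoImplicit false
set_option linter.unusedSectionVars false

open Matrix Cfsg.Agent.Unitary

namespace Cfsg.Agent.UnitaryThree22

variable {F : Type*} [Field F] [Fintype F]

section Setup

variable (hF : Fintype.card F = 3 ^ 2)

/-- `e₂`. -/
abbrev w₀ (F : Type*) [Field F] : Fin 3 → F := eI 2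

include hF in
theorem exists_basis : ∃ u v : Fin 3 → F, u 2 = 0 ∧ v 2 = 0 ∧ herm 3 u u = 0 ∧ herm 3 v v = 0 ∧
    herm 3 u v = 1 ∧ ∀ x : Fin 3 → F, x = herm 3 x v • u + herm 3 x u • v + x 2 • (w₀ F) := by
  obtain ⟨u, v, hu', hv', hu, hv, huv⟩ :=
    exists_std_pair hF (i := (0 : Fin 3)) (j := 1) (by decide)
  have hu2 : u 2 = 0 := hu' 2 (by decide)
  have hv2 : v 2 = 0 := hv' 2 (by decide)
  refine ⟨u, v, hu2, hv2, hu, hv, huv, fun x => ?_⟩
  have hS : ∀ k : Fin 3, k ∉ ({0, 1}ᶜ : Finset (Fin 3)) → k = 0 ∨ k = 1 := fun k hk => by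
    simpa [or_iff_not_imp_left] using hk
  have hxS : x - x 2 • (w₀ F) ∈ supp ({0, 1}ᶜ : Finset (Fin 3)) := by
    intro k hk
    fin_cases k <;> simp_all [eI]
  have h := eq_pair_combination hF (by decide : (0 : Fin 3) ≠ 1) hS (by decide) (by decide) hu' hv'
    hu hv huv hxS
  simp only [herm_sub_left, herm_smul_left, herm_eI_left, hu2, hv2, zero_pow (by norm_num : 3 ≠ 0),
    mul_zero, sub_zero] at h
  exact sub_eq_iff_eq_add.1 h

variable {u v : Fin 3 → F} (hu2 : u 2 = 0) (hv2 : v 2 = 0) (hu : herm 3 u u = 0)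
  (hv : herm 3 v v = 0) (huv : herm 3 u v = 1)
  (hspan : ∀ x : Fin 3 → F, x = herm 3 x v • u + herm 3 x u • v + x 2 • (w₀ F))

include hF in
theorem det_eq {g : GU 3 F 3} {c : F} (h0 : g • (eI 0 : Fin 3 → F) = eI 0)
    (h1 : g • (eI 1 : Fin 3 → F) = eI 1) (h2 : g • ((w₀ F) : Fin 3 → F) = c • (w₀ F)) : (detGU g : F) = c := by
  set M : Matrix (Fin 3) (Fin 3) F := ((g : GL (Fin 3) F) : Matrix (Fin 3) (Fin 3) F)
  have e : ∀ i l, (g • (eI l : Fin 3 → F)) i = M i l := fun i l => by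
    show (M *ᵥ eI l) i = _
    simp [eI, Matrix.mulVec_single]
  rw [coe_detGU, Matrix.det_fin_three]
  simp only [show ((g : GL (Fin 3) F) : Matrix (Fin 3) (Fin 3) F) = M from rfl, ← e, h0, h1, h2]
  simp [eI]

include hF in
theorem fix_of_two {g : GU 3 F 3} (hu2 : u 2 = 0) (hv2 : v 2 = 0)
    (hspan : ∀ x : Fin 3 → F, x = herm 3 x v • u + herm 3 x u • v + x 2 • (w₀ F))
    (hgu : g • u = u) (hgv : g • v = v) :
    ∃ c : F, g • ((w₀ F) : Fin 3 → F) = c • (w₀ F) ∧ (detGU g : F) = c ∧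
      ∀ x : Fin 3 → F, x 2 = 0 → g • x = x := by
  have hfix : ∀ x : Fin 3 → F, x 2 = 0 → g • x = x := fun x hx => by
    have h := hspan x
    rw [hx, zero_smul, add_zero] at h
    rw [h, smul_add, smul_comm g, smul_comm g, hgu, hgv]
  have hw : g • (w₀ F) = (g • (w₀ F)) 2 • (w₀ F) := by
    have h := hspan (g • (w₀ F))
    have h1 : herm 3 (g • (w₀ F)) v = 0 := by
      rw [← hgv, herm_smul_GU, herm_eI_left, hv2, zero_pow (by norm_num)]
    have h2 : herm 3 (g • (w₀ F)) u = 0 := by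
      rw [← hgu, herm_smul_GU, herm_eI_left, hu2, zero_pow (by norm_num)]
    rw [h1, h2, zero_smul, zero_smul, zero_add, zero_add] at h
    exact h
  exact ⟨_, hw, det_eq hF (hfix _ (by simp [eI])) (hfix _ (by simp [eI])) hw, hfix⟩

include hF in
theorem SU_ext (hu2 : u 2 = 0) (hv2 : v 2 = 0)
    (hspan : ∀ x : Fin 3 → F, x = herm 3 x v • u + herm 3 x u • v + x 2 • (w₀ F))
    {g h : SU 3 F 3} (h1 : g • u = h • u) (h2 : g • v = h • v) : g = h := by
  rw [← inv_mul_eq_one]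
  set k := g⁻¹ * h
  have ku : k • u = u := by rw [mul_smul, ← h1, inv_smul_smul]
  have kv : k • v = v := by rw [mul_smul, ← h2, inv_smul_smul]
  obtain ⟨c, hc, hdet, hfix⟩ := fix_of_two hF (g := toGU k) hu2 hv2 hspan ku kv
  have hc1 : c = 1 := by
    rw [← hdet]
    have : toGU k ∈ (detGU : GU 3 F 3 →* Fˣ).ker := by
      rw [← range_toGU]; exact ⟨k, rfl⟩
    rw [MonoidHom.mem_ker.1 this]; rfl
  refine eq_of_smul_eq_SU fun x => ?_
  rw [one_smul]
  conv_lhs => rw [hspan x]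
  rw [smul_add, smul_add, smul_comm k, smul_comm k, smul_comm k, ku, kv,
    show k • (w₀ F) = (w₀ F) from hc.trans (by rw [hc1, one_smul])]
  exact (hspan x).symm

include hF hu2 hv2 hu hv huv in
theorem exists_SU_pair {u' v' : Fin 3 → F} (hu' : herm 3 u' u' = 0) (hv' : herm 3 v' v' = 0)
    (huv' : herm 3 u' v' = 1) : ∃ g : SU 3 F 3, g • u = u' ∧ g • v = v' := by
  obtain ⟨g, -, hgu, hgv⟩ := exists_fixGU_pair hF (S := (∅ : Finset (Fin 3)))
    (u := u) (v := v) (u' := u') (v' := v') (by simp [supp_empty]) (by simp [supp_empty])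
    (by simp [supp_empty]) (by simp [supp_empty]) hu hv huv hu' hv' huv'
  set δ : F := (detGU g : F)⁻¹
  have hδ : δ ^ (3 + 1) = 1 := by rw [inv_pow, det_norm hF, inv_one]
  have hM : ∀ x y : Fin 3 → F, herm 3 (Matrix.diagonal ![1, 1, δ] *ᵥ x)
      (Matrix.diagonal ![1, 1, δ] *ᵥ y) = herm 3 x y := by
    intro x y
    simp only [herm, hermForm, Matrix.mulVec_diagonal, Fin.sum_univ_three]
    simp [mul_pow]
    linear_combination (x 2 * y 2 ^ 3) * hδ
  set d := mkGU hF _ hM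
  have hd : ∀ x : Fin 3 → F, x 2 = 0 → d • x = x := fun x hx => by
    rw [mkGU_smul]
    funext i
    fin_cases i <;> simp [Matrix.mulVec_diagonal, hx]
  have hdet : detGU (g * d) = 1 := by
    refine Units.ext ?_
    rw [map_mul, Units.val_mul, Units.val_one,
      show (detGU d : F) = δ by
        show (Matrix.diagonal ![1, 1, δ]).det = δ
        simp [Matrix.det_diagonal, Fin.prod_univ_three]]
    exact mul_inv_cancel₀ (Units.ne_zero _)
  have hm : g * d ∈ (toGU : SU 3 F 3 →* GU 3 F 3).range := by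
    rw [range_toGU]; exact hdet
  obtain ⟨s, hs⟩ := hm
  refine ⟨s, ?_, ?_⟩ <;> rw [← toGU_smul, hs, mul_smul]
  · rw [hd u hu2, hgu]
  · rw [hd v hv2, hgv]

end Setup

set_option maxHeartbeats 1200000 in
/-- The datum. -/
theorem nonempty_datum (hF : Fintype.card F = 3 ^ 2) : Nonempty (Datum (SU 3 F 3)) := by
  classical
  obtain ⟨u, v, hu2, hv2, hu, hv, huv, hspan⟩ := exists_basis hF
  have hvu : herm 3 v u = 1 := herm_one_swap hF huv
  have hu0 : u ≠ 0 := ne_zero_of_herm_one hF huv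
  have hv0 : v ≠ 0 := ne_zero_of_herm_one hF hvu
  have hw2 : ((w₀ F) : Fin 3 → F) 2 = 1 := by simp [eI]
  have hww : herm 3 ((w₀ F) : Fin 3 → F) (w₀ F) = 1 := by rw [herm_eI_eI hF]; simp
  have hwu : herm 3 ((w₀ F) : Fin 3 → F) u = 0 := by rw [herm_eI_left, hu2, zero_pow (by norm_num)]
  have hwv : herm 3 ((w₀ F) : Fin 3 → F) v = 0 := by rw [herm_eI_left, hv2, zero_pow (by norm_num)]
  have huw : herm 3 u ((w₀ F) : Fin 3 → F) = 0 := (herm_eq_zero_comm hF).1 hwu
  have hvw : herm 3 v ((w₀ F) : Fin 3 → F) = 0 := (herm_eq_zero_comm hF).1 hwv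
  -- the character on the stabilizer of the line of `u`
  let B : Subgroup (SU 3 F 3) :=
    { carrier := {g | ∃ a : Fˣ, g • u = (a : F) • u}
      one_mem' := ⟨1, by simp⟩
      mul_mem' := fun {g h} ⟨a, ha⟩ ⟨b, hb⟩ =>
        ⟨b * a, by rw [mul_smul, hb, smul_comm g, ha, smul_smul, Units.val_mul]⟩
      inv_mem' := fun {g} ⟨a, ha⟩ => ⟨a⁻¹, by
        rw [inv_smul_eq_iff, smul_comm g, ha, smul_smul, Units.inv_mul, one_smul]⟩ }
  have hmemB : ∀ {g}, g ∈ B ↔ ∃ a : Fˣ, g • u = (a : F) • u := Iff.rfl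
  choose αf hαf using fun g : B => hmemB.1 g.2
  have huniq : ∀ {a b : F}, a • u = b • u → a = b := fun h => smul_left_injective F hu0 h
  let α : B →* Fˣ :=
    { toFun := αf
      map_one' := Units.ext (huniq (by rw [← hαf]; simp))
      map_mul' := fun g h => Units.ext (huniq (by
        rw [← hαf, Subgroup.coe_mul, mul_smul, hαf h, smul_comm (g : SU 3 F 3), hαf g, smul_smul,
          Units.val_mul, mul_comm])) }
  have hα : ∀ g : B, (g : SU 3 F 3) • u = ((α g : Fˣ) : F) • u := hαf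
  -- a generator of the multiplicative group
  obtain ⟨g0, hg0⟩ := IsCyclic.exists_monoid_generator (α := Fˣ)
  have hgen : ∀ x : Fˣ, x ∈ Subgroup.zpowers g0 := fun x => by
    obtain ⟨k, rfl⟩ := hg0 x
    exact Subgroup.pow_mem _ (Subgroup.mem_zpowers g0) k
  have ho : orderOf g0 = 8 := by
    rw [orderOf_eq_card_of_forall_mem_zpowers hgen, Nat.card_units, Nat.card_eq_fintype_card, hF]
    norm_num
  have hζ := Complex.isPrimitiveRoot_exp 8 (by norm_num)
  set ζ : ℂ := Complex.exp (2 * Real.pi * Complex.I / (8 : ℕ))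
  let ζu : ℂˣ := Units.mk0 ζ (hζ.ne_zero (by norm_num))
  have hζu : orderOf ζu = 8 := by
    rw [← orderOf_units]; exact hζ.eq_orderOf.symm
  let ι : Fˣ →* ℂˣ := monoidHomOfForallMemZpowers hgen (g' := ζu) (by rw [hζu, ho])
  have hι0 : ι g0 = ζu := monoidHomOfForallMemZpowers_apply_gen hgen _
  have hι : ∀ x, ι x = 1 → x = 1 := fun x hx => by
    obtain ⟨k, rfl⟩ := hg0 x
    have h8 : orderOf g0 ∣ k := by
      rw [ho, ← hζu]
      refine orderOf_dvd_of_pow_eq_one ?_
      rw [← hι0, ← map_pow]; exact hx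
    exact orderOf_dvd_iff_pow_eq_one.1 h8
  -- a torus element
  have hq : ∀ x : F, (x ^ 3) ^ 3 = x := fun x => pow_q_pow_q hF x
  obtain ⟨τ, hτu, hτv⟩ := exists_SU_pair hF hu2 hv2 hu hv huv (u' := (g0 : F) • u)
    (v' := (((g0 : F) ^ 3))⁻¹ • v)
    (by rw [herm_smul_left, herm_smul_right hF, hu, mul_zero, mul_zero])
    (by rw [herm_smul_left, herm_smul_right hF, hv, mul_zero, mul_zero])
    (by rw [herm_smul_left, herm_smul_right hF, huv, mul_one, inv_pow, hq,
      mul_inv_cancel₀ g0.ne_zero])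
  have hτB : τ ∈ B := ⟨g0, hτu⟩
  have hατ : α ⟨τ, hτB⟩ = g0 := Units.ext (huniq (by rw [← hα ⟨τ, hτB⟩, hτu]))
  obtain ⟨w, hwu', hwv'⟩ := exists_SU_pair hF hu2 hv2 hu hv huv (u' := v) (v' := u) hv hu hvu
  have hτpow : ∀ k : ℕ, (τ ^ k) • u = ((g0 : F) ^ k) • u ∧
      (τ ^ k) • v = (((g0 : F) ^ 3)⁻¹ ^ k) • v := by
    intro k
    induction k with
    | zero => simp
    | succ k ih =>
      refine ⟨?_, ?_⟩
      · rw [pow_succ', mul_smul, ih.1, smul_comm τ, hτu, smul_smul, ← pow_succ]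
      · rw [pow_succ', mul_smul, ih.2, smul_comm τ, hτv, smul_smul, ← pow_succ]
  have hoτ : orderOf τ = 8 := by
    refine (orderOf_eq_iff (by norm_num)).2 ⟨?_, fun m hm hm0 h => ?_⟩
    · refine SU_ext hF hu2 hv2 hspan ?_ ?_
      · rw [(hτpow 8).1, one_smul, ← Units.val_pow_eq_pow_val, ← ho, pow_orderOf_eq_one,
          Units.val_one, one_smul]
      · rw [(hτpow 8).2, one_smul, inv_pow, ← pow_mul, mul_comm, pow_mul,
          ← Units.val_pow_eq_pow_val, ← ho, pow_orderOf_eq_one, Units.val_one, one_pow, inv_one,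
          one_smul]
    · have h1 := (hτpow m).1
      rw [h, one_smul] at h1
      have : g0 ^ m = 1 := Units.ext (by
        rw [Units.val_pow_eq_pow_val, Units.val_one]
        exact (huniq (by rw [one_smul]; exact h1)).symm)
      have := Nat.le_of_dvd hm0 (orderOf_dvd_of_pow_eq_one this)
      omega
  -- two point stabilizer
  have hinter : ∀ g : SU 3 F 3, (g ∈ B ∧ w * g * w⁻¹ ∈ B) ↔ g ∈ Subgroup.zpowers τ := by
    have hwi : w⁻¹ • u = v := by rw [inv_smul_eq_iff, hwv']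
    intro g
    constructor
    · rintro ⟨⟨a, ha⟩, ⟨b, hb⟩⟩
      have hgv : g • v = (b : F) • v := by
        rw [mul_smul, mul_smul, hwi] at hb
        have := congrArg (fun x => w⁻¹ • x) hb
        simp only [inv_smul_smul, smul_comm w⁻¹, hwi] at this
        exact this
      have hab : (a : F) * (b : F) ^ 3 = 1 := by
        have h := herm_smul_SU g u v
        rw [ha, hgv, herm_smul_left, herm_smul_right hF, huv, mul_one] at h
        exact h
      obtain ⟨k, hk : g0 ^ k = a⟩ := hg0 a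
      have hkv : (b : F) = ((g0 : F) ^ 3)⁻¹ ^ k := by
        have hb3 : (b : F) ^ 3 = (a : F)⁻¹ := eq_inv_of_mul_eq_one_right hab
        calc (b : F) = ((b : F) ^ 3) ^ 3 := (hq _).symm
          _ = ((a : F)⁻¹) ^ 3 := by rw [hb3]
          _ = _ := by rw [← hk, Units.val_pow_eq_pow_val, inv_pow, inv_pow, ← pow_mul, ← pow_mul,
            mul_comm]
      have : g = τ ^ k := SU_ext hF hu2 hv2 hspan
        (by rw [ha, (hτpow k).1, ← hk, Units.val_pow_eq_pow_val])
        (by rw [hgv, (hτpow k).2, hkv])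
      rw [this]
      exact Subgroup.pow_mem _ (Subgroup.mem_zpowers τ) k
    · intro hg
      obtain ⟨k, rfl⟩ := (mem_powers_iff_mem_zpowers (x := τ)).2 hg
      refine ⟨⟨g0 ^ k, by rw [(hτpow k).1, Units.val_pow_eq_pow_val]⟩,
        ⟨((g0 ^ 3)⁻¹) ^ k, ?_⟩⟩
      rw [mul_smul, mul_smul, hwi, (hτpow k).2, smul_comm w, hwv']
      simp
  -- the unipotent radical
  let U : Subgroup (SU 3 F 3) := MulAction.stabilizer (SU 3 F 3) u
  have hU : ∀ {g}, g ∈ U ↔ g • u = u := Iff.rfl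
  have hUB : U ≤ B := fun g hg => ⟨1, by rw [hU.1 hg, Units.val_one, one_smul]⟩
  have hαU : ∀ b : B, α b = 1 ↔ (b : SU 3 F 3) ∈ U := fun b => by
    rw [hU]
    exact ⟨fun h => by rw [hα b, h, Units.val_one, one_smul],
      fun h => Units.ext (huniq (by rw [← hα b, h, Units.val_one, one_smul]))⟩
  -- coordinates on `U`
  let sc : SU 3 F 3 → F := fun g => (g • v) 2
  let bc : SU 3 F 3 → F := fun g => herm 3 (g • v) v
  have hUv : ∀ g ∈ U, g • v = bc g • u + v + sc g • (w₀ F) := fun g hg => by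
    have h := hspan (g • v)
    have h1 : herm 3 (g • v) u = 1 := by
      have h2 := herm_smul_SU g v u
      rwa [hU.1 hg, hvu] at h2
    rw [h1, one_smul] at h
    exact h
  have hUiso : ∀ g ∈ U, bc g + bc g ^ 3 + sc g * sc g ^ 3 = 0 := fun g hg => by
    have h := herm_smul_SU g v v
    rw [hUv g hg, hv] at h
    simp only [herm_add_left, herm_add_right hF, herm_smul_left, herm_smul_right hF, hu, hv, huv,
      hvu, huw, hvw, hwu, hwv, hww] at h
    linear_combination h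
  have hUw : ∀ g ∈ U, g • (w₀ F) = (-(sc g) ^ 3) • u + (w₀ F) := fun g hg => by
    have h := hspan (g • (w₀ F))
    have h1 : herm 3 (g • (w₀ F)) u = 0 := by
      have h2 := herm_smul_SU g (w₀ F) u
      rwa [hU.1 hg, hwu] at h2
    rw [h1, zero_smul, add_zero] at h
    have h2 := herm_smul_SU g (w₀ F) v
    rw [hUv g hg, h, hwv] at h2
    simp only [herm_add_left, herm_add_right hF, herm_smul_left, herm_smul_right hF, hu, huv,
      huw, hwu, hwv, hww] at h2
    -- the coefficient of `(w₀ F)` is one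
    obtain ⟨g', hg'u, hg'v⟩ := exists_SU_pair hF hu2 hv2 hu hv huv (u' := u) (v' := v) hu hv huv
    have hdiag : (g • (w₀ F)) 2 = 1 := by
      set M : Matrix (Fin 3) (Fin 3) F := ((g : Matrix.SpecialLinearGroup (Fin 3) F) :
        Matrix (Fin 3) (Fin 3) F)
      set P : Matrix (Fin 3) (Fin 3) F := Matrix.of fun i j => ![u, v, (w₀ F)] j i
      set T : Matrix (Fin 3) (Fin 3) F :=
        !![1, bc g, herm 3 (g • (w₀ F)) v; 0, 1, 0; 0, sc g, (g • (w₀ F)) 2]
      have hcol : ∀ x : Fin 3 → F, M *ᵥ x = g • x := fun x => rfl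
      have hMP : M * P = P * T := by
        ext i j
        have e : (M * P) i j = (M *ᵥ (![u, v, (w₀ F)] j)) i := rfl
        rw [e, hcol]
        fin_cases j <;> simp only [Matrix.mul_apply, Fin.sum_univ_three, P, T]
        · simp [hU.1 hg]
        · simp [hUv g hg]; ring
        · simp
          conv_lhs => rw [h]
          simp
          ring
      have hP : P.det ≠ 0 := by
        intro hP0
        obtain ⟨c, hc0, hc⟩ := Matrix.exists_mulVec_eq_zero_iff.2 hP0
        have hx : c 0 • u + c 1 • v + c 2 • (w₀ F) = 0 := by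
          funext i
          have := congrFun hc i
          simp [Matrix.mulVec, dotProduct, Fin.sum_univ_three, P] at this ⊢
          linear_combination this
        have e1 := congrArg (fun x => herm 3 x v) hx
        have e2 := congrArg (fun x => herm 3 x u) hx
        have e3 := congrArg (fun x : Fin 3 → F => x 2) hx
        simp [herm_add_left, herm_smul_left, huv, hv, hu, hvu, hwu, hwv] at e1 e2
        simp [hu2, hv2, eI] at e3
        exact hc0 (funext fun i => by fin_cases i <;> simp [e1, e2, e3])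
      have hdet := congrArg Matrix.det hMP
      have hT : T.det = (g • (w₀ F)) 2 := by
        simp [T, Matrix.det_fin_three]
      rw [Matrix.det_mul, Matrix.det_mul,
        show M.det = 1 from (g : Matrix.SpecialLinearGroup (Fin 3) F).2, one_mul, hT] at hdet
      exact mul_left_cancel₀ hP (by rw [← hdet, mul_one])
    rw [hdiag, one_smul] at h
    rw [hdiag] at h2
    rw [h]
    congr 2
    linear_combination h2
  have hmul : ∀ g ∈ U, ∀ k ∈ U, sc (g * k) = sc g + sc k ∧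
      bc (g * k) = bc g + bc k - sc k * sc g ^ 3 := fun g hg k hk => by
    have e : (g * k) • v = (bc g + bc k - sc k * sc g ^ 3) • u + v + (sc g + sc k) • (w₀ F) := by
      rw [mul_smul, hUv k hk, smul_add, smul_add, smul_comm g, smul_comm g, hU.1 hg, hUw g hg,
        hUv g hg]
      module
    constructor
    · show ((g * k) • v) 2 = _
      rw [e]
      simp [hu2, hv2, hw2]
    · show herm 3 ((g * k) • v) v = _
      rw [e]
      simp [herm_add_left, herm_smul_left, huv, hv, hwv]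
  have hUext : ∀ g ∈ U, ∀ k ∈ U, sc g = sc k → bc g = bc k → g = k := fun g hg k hk h1 h2 =>
    SU_ext hF hu2 hv2 hspan (by rw [hU.1 hg, hU.1 hk]) (by rw [hUv g hg, hUv k hk, h1, h2])
  have hmk : ∀ s b : F, b + b ^ 3 + s * s ^ 3 = 0 → ∃ g ∈ U, sc g = s ∧ bc g = b := by
    intro s b h
    obtain ⟨g, hgu, hgv⟩ := exists_SU_pair hF hu2 hv2 hu hv huv (u' := u)
      (v' := b • u + v + s • (w₀ F)) hu
      (by
        simp only [herm_add_left, herm_add_right hF, herm_smul_left, herm_smul_right hF, hu, hv,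
          huv, hvu, huw, hvw, hwu, hwv, hww]
        linear_combination h)
      (by simp [herm_add_right hF, herm_smul_right hF, hu, huv, huw])
    refine ⟨g, hU.2 hgu, ?_, ?_⟩
    · show (g • v) 2 = s
      rw [hgv]; simp [hu2, hv2, hw2]
    · show herm 3 (g • v) v = b
      rw [hgv]; simp [herm_add_left, herm_smul_left, huv, hv, hwv]
  have hbex : ∀ s : F, ∃ b : F, b + b ^ 3 + s * s ^ 3 = 0 := fun s => by
    obtain ⟨b, hb⟩ := exists_trace_eq hF (t := -(s * s ^ 3)) (by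
      rw [neg_pow_q hF, mul_pow, hq, mul_comm])
    exact ⟨b, by linear_combination hb⟩
  choose bs hbs using hbex
  have hcardU : Nat.card U = 27 := by
    have e : U ≃ F × {x : F // x + x ^ 3 = 0} :=
      Equiv.ofBijective
        (fun g => (sc g.1, ⟨bc g.1 - bs (sc g.1), by
          have h1 := hUiso g.1 g.2
          have h2 := hbs (sc g.1)
          rw [sub_pow_q hF]
          linear_combination h1 - h2⟩))
        ⟨fun g k h => by
          simp only [Prod.mk.injEq, Subtype.mk.injEq] at h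
          exact Subtype.ext (hUext _ g.2 _ k.2 h.1 (by rw [h.1] at h; simpa using h.2)),
        fun ⟨s, x, hx⟩ => by
          obtain ⟨g, hg, h1, h2⟩ := hmk s (x + bs s) (by
            have := hbs s
            rw [add_pow_q hF]
            linear_combination hx + this)
          exact ⟨⟨g, hg⟩, by simp [h1, h2]⟩⟩
    rw [Nat.card_congr e, Nat.card_prod, card_trace_ker hF, Nat.card_eq_fintype_card, hF]; norm_num
  have hsc1 : sc 1 = 0 := by show ((1 : SU 3 F 3) • v) 2 = 0; rw [one_smul, hv2]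
  have hbc1 : bc 1 = 0 := by show herm 3 ((1 : SU 3 F 3) • v) v = 0; rw [one_smul, hv]
  let σ : U →* Multiplicative F :=
    { toFun := fun g => Multiplicative.ofAdd (sc g)
      map_one' := by simp [hsc1]
      map_mul' := fun g k => by
        rw [← ofAdd_add]; exact congrArg _ (hmul g g.2 k k.2).1 }
  have hσ : ∀ g : U, σ g = 1 ↔ sc g = 0 := fun g => by simp [σ]
  have hker : Nat.card σ.ker = 3 := by
    refine Eq.trans ?_ (card_trace_ker hF)
    refine Nat.card_congr (Equiv.ofBijective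
      (fun g => (⟨bc g.1.1, by
        have h := hUiso g.1.1 g.1.2
        rw [(hσ g.1).1 g.2] at h
        simpa using h⟩ : {x : F // x + x ^ 3 = 0})) ⟨fun g k h => ?_, fun ⟨x, hx⟩ => ?_⟩)
    · simp only [Subtype.mk.injEq] at h
      exact Subtype.ext (Subtype.ext (hUext _ g.1.2 _ k.1.2
        (by rw [(hσ g.1).1 g.2, (hσ k.1).1 k.2]) h))
    · obtain ⟨g, hg, h1, h2⟩ := hmk 0 x (by simpa using hx)
      exact ⟨⟨⟨g, hg⟩, (hσ ⟨g, hg⟩).2 h1⟩, Subtype.ext h2⟩
  -- a nontrivial commutator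
  obtain ⟨t, ht⟩ : ∃ t : F, t ^ 3 ≠ t := by
    by_contra hcon
    push Not at hcon
    have h1 : Nat.card {x : F // x ^ 3 = x} = Nat.card F :=
      Nat.card_congr (Equiv.subtypeUnivEquiv hcon)
    rw [card_fixed hF, Nat.card_eq_fintype_card, hF] at h1
    norm_num at h1
  obtain ⟨x₁, hx₁, hs₁, -⟩ := hmk 1 _ (hbs 1)
  obtain ⟨x₂, hx₂, hs₂, -⟩ := hmk t _ (hbs t)
  set z := x₁ * x₂ * x₁⁻¹ * x₂⁻¹
  have hzU : z ∈ U := mul_mem (mul_mem (mul_mem hx₁ hx₂) (inv_mem hx₁)) (inv_mem hx₂)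
  have hcomm : ∀ x : U, ∀ y : U, x * y * x⁻¹ * y⁻¹ ∈ σ.ker := fun x y => by
    rw [MonoidHom.mem_ker, map_mul, map_mul, map_mul, map_inv, map_inv, mul_inv_cancel_comm,
      mul_inv_cancel]
  have hzne : z ≠ 1 := by
    intro h
    have h' : x₁ * x₂ = x₂ * x₁ := mul_inv_eq_iff_eq_mul.1 (mul_inv_eq_one.1 h)
    have := congrArg bc h'
    rw [(hmul _ hx₁ _ hx₂).2, (hmul _ hx₂ _ hx₁).2, hs₁, hs₂] at this
    exact ht (by linear_combination this)
  have hzker : (⟨z, hzU⟩ : U) ∈ σ.ker := hcomm ⟨x₁, hx₁⟩ ⟨x₂, hx₂⟩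
  have hz3 : z ^ 3 = 1 := by
    have h := pow_card_eq_one' (x := (⟨_, hzker⟩ : σ.ker))
    rw [hker] at h
    exact congrArg (fun g : σ.ker => ((g : U) : SU 3 F 3)) h
  have hZ : ∀ g : U, sc g = 0 → (g : SU 3 F 3) ∈ Subgroup.zpowers z := by
    intro g hg
    have h := Subgroup.eq_of_le_of_card_ge (show Subgroup.zpowers (⟨z, hzU⟩ : U) ≤ σ.ker from
      Subgroup.zpowers_le.2 hzker) (by
        rw [hker, Nat.card_zpowers, ← Subgroup.orderOf_coe]
        exact (orderOf_eq_prime hz3 hzne).ge)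
    have : g ∈ Subgroup.zpowers (⟨z, hzU⟩ : U) := h ▸ (hσ g).2 hg
    obtain ⟨k, hk⟩ := Subgroup.mem_zpowers_iff.1 this
    exact ⟨k, by rw [← hk]; simp⟩
  have hsz : sc z = 0 := (hσ ⟨z, hzU⟩).1 hzker
  have hzc : ∀ x ∈ U, z * x = x * z := fun x hx =>
    hUext _ (mul_mem hzU hx) _ (mul_mem hx hzU)
      (by rw [(hmul _ hzU _ hx).1, (hmul _ hx _ hzU).1, add_comm])
      (by rw [(hmul _ hzU _ hx).2, (hmul _ hx _ hzU).2, hsz]; ring)
  -- action of `τ` on `U`
  have hτw : ∃ c : F, c ^ 4 = 1 ∧ τ • (w₀ F) = c • (w₀ F) := by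
    have h := hspan (τ • (w₀ F))
    have h1 : herm 3 (τ • (w₀ F)) u = 0 := by
      have h2 := herm_smul_SU τ (w₀ F) u
      rw [hτu, herm_smul_right hF, hwu, mul_eq_zero] at h2
      exact h2.resolve_left (pow_ne_zero 3 g0.ne_zero)
    have h3 : herm 3 (τ • (w₀ F)) v = 0 := by
      have h2 := herm_smul_SU τ (w₀ F) v
      rw [hτv, herm_smul_right hF, hwv, mul_eq_zero] at h2
      exact h2.resolve_left (pow_ne_zero 3 (inv_ne_zero (pow_ne_zero 3 g0.ne_zero)))
    rw [h1, h3, zero_smul, zero_smul, zero_add, zero_add] at h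
    refine ⟨_, ?_, h⟩
    have h4 := herm_smul_SU τ ((w₀ F) : Fin 3 → F) (w₀ F)
    rw [h, herm_smul_left, herm_smul_right hF, hww, mul_one] at h4
    linear_combination h4
  obtain ⟨c, hc4, hτw⟩ := hτw
  have hτconj : ∀ g ∈ U, τ * g * τ⁻¹ ∈ U ∧ sc (τ * g * τ⁻¹) = (g0 : F) ^ 3 * c * sc g ∧
      bc (τ * g * τ⁻¹) = (g0 : F) ^ 4 * bc g := by
    intro g hg
    have hiu : τ⁻¹ • u = ((g0 : F)⁻¹) • u := by
      rw [inv_smul_eq_iff, smul_comm τ, hτu, smul_smul, inv_mul_cancel₀ g0.ne_zero, one_smul]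
    have hiv : τ⁻¹ • v = ((g0 : F) ^ 3) • v := by
      rw [inv_smul_eq_iff, smul_comm τ, hτv, smul_smul, mul_inv_cancel₀ (pow_ne_zero 3 g0.ne_zero),
        one_smul]
    have e : (τ * g * τ⁻¹) • v =
        ((g0 : F) ^ 4 * bc g) • u + v + ((g0 : F) ^ 3 * c * sc g) • (w₀ F) := by
      rw [mul_smul, mul_smul, hiv, smul_comm g, hUv g hg, smul_comm τ, smul_add, smul_add,
        smul_add, smul_comm τ (bc g), smul_comm τ (sc g), hτu, hτv, hτw]
      simp only [smul_add, smul_smul]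
      rw [mul_inv_cancel₀ (pow_ne_zero 3 g0.ne_zero), one_smul]
      congr 1
      · congr 2; ring
      · congr 1; ring
    refine ⟨hU.2 ?_, ?_, ?_⟩
    · rw [mul_smul, mul_smul, hiu, smul_comm g, hU.1 hg, smul_comm τ, hτu, smul_smul,
        inv_mul_cancel₀ g0.ne_zero, one_smul]
    · show ((τ * g * τ⁻¹) • v) 2 = _
      rw [e]; simp [hu2, hv2, hw2]
    · show herm 3 ((τ * g * τ⁻¹) • v) v = _
      rw [e]; simp [herm_add_left, herm_smul_left, huv, hv, hwv]
  have hg4 : (g0 : F) ^ 4 = -1 := by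
    have h8 : ((g0 : F) ^ 4) ^ 2 = 1 := by
      rw [← pow_mul, ← Units.val_pow_eq_pow_val, show 4 * 2 = orderOf g0 by omega,
        pow_orderOf_eq_one, Units.val_one]
    rcases sq_eq_one_iff.1 h8 with h | h
    · exfalso
      have : g0 ^ 4 = 1 := Units.ext (by simpa using h)
      have := Nat.le_of_dvd (by norm_num) (orderOf_dvd_of_pow_eq_one this)
      omega
    · exact h
  set mu : F := (g0 : F) ^ 3 * c
  have hmu0 : mu ≠ 0 := mul_ne_zero (pow_ne_zero 3 g0.ne_zero) fun h => by simp [h] at hc4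
  have hneg : (-1 : F) ≠ 1 := by
    intro h
    have : g0 ^ 4 = 1 := Units.ext (by rw [Units.val_pow_eq_pow_val, hg4, h, Units.val_one])
    have := Nat.le_of_dvd (by norm_num) (orderOf_dvd_of_pow_eq_one this)
    omega
  have hmu : ∀ x : F, x ≠ 0 → ∃ i : ℕ, mu ^ i = x := by
    intro x hx
    have h4 : mu ^ 4 = -1 := by
      rw [mul_pow, hc4, mul_one, ← pow_mul, mul_comm, pow_mul, hg4]; ring
    have hom : orderOf (Units.mk0 mu hmu0) = 8 := by
      refine orderOf_eq_prime_pow (p := 2) (n := 2) ?_ ?_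
      · intro h
        exact hneg (h4.symm.trans (by simpa using congrArg Units.val h))
      · refine Units.ext ?_
        simp only [Units.val_pow_eq_pow_val, Units.val_mk0, Units.val_one]
        norm_num
        rw [show (8 : ℕ) = 4 * 2 from rfl, pow_mul, h4]; ring
    have htop : Subgroup.zpowers (Units.mk0 mu hmu0) = ⊤ := Subgroup.eq_top_of_card_eq _ (by
      rw [Nat.card_zpowers, hom, Nat.card_units, Nat.card_eq_fintype_card, hF]; norm_num)
    obtain ⟨i, hi⟩ := (mem_powers_iff_mem_zpowers (x := Units.mk0 mu hmu0)).2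
      (htop ▸ Subgroup.mem_top (Units.mk0 x hx))
    exact ⟨i, by simpa using congrArg Units.val hi⟩
  have hτi : ∀ (i : ℕ), ∀ g ∈ U, τ ^ i * g * (τ ^ i)⁻¹ ∈ U ∧
      sc (τ ^ i * g * (τ ^ i)⁻¹) = mu ^ i * sc g := by
    intro i
    induction i with
    | zero => intro g hg; simpa using hg
    | succ i ih =>
      intro g hg
      obtain ⟨h1, h2⟩ := ih g hg
      obtain ⟨h3, h4, -⟩ := hτconj _ h1
      rw [show τ ^ (i + 1) * g * (τ ^ (i + 1))⁻¹ = τ * (τ ^ i * g * (τ ^ i)⁻¹) * τ⁻¹ by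
        rw [pow_succ']; group]
      exact ⟨h3, by rw [h4, h2, pow_succ]; ring⟩
  have hzτ : τ * z * τ⁻¹ = z⁻¹ := by
    obtain ⟨h1, h2, h3⟩ := hτconj z hzU
    refine eq_inv_of_mul_eq_one_left ?_
    refine hUext _ (mul_mem h1 hzU) _ (one_mem U) ?_ ?_
    · rw [(hmul _ h1 _ hzU).1, h2, hsz, hsc1]; ring
    · rw [(hmul _ h1 _ hzU).2, h3, hsz, hg4, hbc1]; ring
  have htrans : ∀ x ∈ U, ∀ y ∈ U, x ∉ Subgroup.zpowers z → y ∉ Subgroup.zpowers z →
      ∃ i : ℕ, τ ^ i * x * (τ ^ i)⁻¹ * y⁻¹ ∈ Subgroup.zpowers z := by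
    intro x hx y hy hxz hyz
    have hx0 : sc x ≠ 0 := fun h => hxz (hZ ⟨x, hx⟩ h)
    have hy0 : sc y ≠ 0 := fun h => hyz (hZ ⟨y, hy⟩ h)
    obtain ⟨i, hi⟩ := hmu (sc y / sc x) (div_ne_zero hy0 hx0)
    obtain ⟨h1, h2⟩ := hτi i x hx
    refine ⟨i, hZ ⟨_, mul_mem h1 (inv_mem hy)⟩ ?_⟩
    have h3 : sc (y⁻¹) = -sc y := by
      have := (hmul _ (inv_mem hy) _ hy).1
      rw [inv_mul_cancel, hsc1] at this
      linear_combination -this
    show sc (τ ^ i * x * (τ ^ i)⁻¹ * y⁻¹) = 0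
    rw [(hmul _ h1 _ (inv_mem hy)).1, h2, h3, hi, div_mul_cancel₀ _ hx0, add_neg_cancel]
  -- cardinalities
  have hcardG : Nat.card (SU 3 F 3) = 6048 := by
    have h := card_SU_mul hF (n := 3) (by norm_num)
    rw [card_GU hF 3] at h
    simp only [Finset.prod_range_succ, Finset.prod_range_zero] at h
    norm_num [Nat.even_iff] at h
    rw [Nat.card_eq_fintype_card]
    omega
  have hsurj : Function.Surjective α := fun a => by
    obtain ⟨k, rfl⟩ := hg0 a
    exact ⟨⟨τ, hτB⟩ ^ k, by rw [map_pow, hατ]⟩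
  have hcardB : Nat.card B = 216 := by
    rw [Subgroup.card_eq_card_quotient_mul_card_subgroup α.ker,
      Nat.card_congr (QuotientGroup.quotientKerEquivOfSurjective α hsurj).toEquiv, Nat.card_units,
      Nat.card_eq_fintype_card, hF]
    have : Nat.card α.ker = Nat.card U :=
      Nat.card_congr ⟨fun x => ⟨(x : B), (hαU _).1 x.2⟩, fun x => ⟨⟨x, hUB x.2⟩, (hαU _).2 x.2⟩,
        fun x => rfl, fun x => rfl⟩
    rw [this, hcardU]; norm_num
  refine ⟨⟨U, B, w, z, τ, ι.comp α, hτB, hcardG, hcardB, hcardU, hoτ, hUB, fun b => ?_, ?_,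
    hinter, ?_, hzU, hzne, hz3, hzc, hzτ, ⟨x₁, hx₁, x₂, hx₂, rfl⟩, fun x hx y hy => ?_, htrans,
    commutator_SU_eq_top hF (le_refl 3) (by simp)⟩⟩
  · rw [← hαU b]
    exact ⟨fun h => hι _ h, fun h => by rw [MonoidHom.comp_apply, h, map_one]⟩
  · rw [MonoidHom.comp_apply, hατ, hι0]
    exact hζ
  · refine SU_ext hF hu2 hv2 hspan ?_ ?_
    · rw [mul_smul, mul_smul, show w⁻¹ • u = v by rw [inv_smul_eq_iff, hwv'], hτv, smul_comm w,
        hwv', (hτpow 5).1]
      congr 1
      refine inv_eq_of_mul_eq_one_right ?_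
      rw [← pow_add, ← Units.val_pow_eq_pow_val, show 3 + 5 = orderOf g0 by omega,
        pow_orderOf_eq_one, Units.val_one]
    · rw [mul_smul, mul_smul, show w⁻¹ • v = u by rw [inv_smul_eq_iff, hwu'], hτu, smul_comm w,
        hwu', (hτpow 5).2]
      congr 1
      rw [inv_pow, ← pow_mul]
      refine eq_inv_of_mul_eq_one_left ?_
      rw [← pow_succ', ← Units.val_pow_eq_pow_val, show 3 * 5 + 1 = orderOf g0 * 2 by omega,
        pow_mul, pow_orderOf_eq_one, one_pow, Units.val_one]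
  · exact hZ _ (hσ _ |>.1 (hcomm ⟨x, hx⟩ ⟨y, hy⟩))

end Cfsg.Agent.UnitaryThree22
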