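import Cfsg.Agent.Lib.CharCore.Complete
import Cfsg.Agent.Lib.CharCore.Linear
import Cfsg.Agent.BC87.Basic
import Mathlib.FieldTheory.Finite.GaloisField
import Mathlib.GroupTheory.CommutingProbability
import Mathlib.Algebra.Group.TypeTags.Finite
import Mathlib.Tactic.IntervalCases

/-!
# Small solvable groups with characters of degree 7 and 6

`AGL₁(8)` has a character of degree 7, and `3^{1+2}:2` one of degree 6.
-/

set_option autoImplicit false
set_option linter.unusedSectionVars false

open Cfsg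
open scoped commutatorElement

namespace Cfsg.Agent.UnitaryThree22

/-- The affine group of the line over a field. -/
@[ext] structure Aff (F : Type) [Field F] where
  b : F
  a : Fˣ

namespace Aff

variable {F : Type} [Field F]

instance : Group (Aff F) where
  mul g h := ⟨g.b + g.a * h.b, g.a * h.a⟩
  one := ⟨0, 1⟩
  inv g := ⟨-((g.a⁻¹ : Fˣ) * g.b : F), g.a⁻¹⟩
  mul_assoc g h k := by
    refine Aff.ext ?_ (mul_assoc _ _ _)
    show g.b + g.a * h.b + ((g.a * h.a : Fˣ) : F) * k.b = g.b + g.a * (h.b + h.a * k.b)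
    rw [Units.val_mul]; ring
  one_mul g := Aff.ext (show (0 : F) + ((1 : Fˣ) : F) * g.b = g.b by simp) (one_mul _)
  mul_one g := Aff.ext (show g.b + (g.a : F) * 0 = g.b by simp) (mul_one _)
  inv_mul_cancel g := Aff.ext
    (show -((g.a⁻¹ : Fˣ) * g.b : F) + ((g.a⁻¹ : Fˣ) : F) * g.b = 0 by simp) (inv_mul_cancel _)

theorem mul_b (g h : Aff F) : (g * h).b = g.b + g.a * h.b := rfl
theorem mul_a (g h : Aff F) : (g * h).a = g.a * h.a := rfl

/-- The multiplicative part. -/
def slope : Aff F →* Fˣ where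
  toFun := Aff.a
  map_one' := rfl
  map_mul' _ _ := rfl

/-- The underlying pair. -/
def pairEquiv : Aff F ≃ F × Fˣ := ⟨fun g => (g.b, g.a), fun p => ⟨p.1, p.2⟩, fun _ => rfl, fun _ => rfl⟩

instance [Fintype F] [DecidableEq F] : Fintype (Aff F) := Fintype.ofEquiv _ pairEquiv.symm

theorem card [Finite F] : Nat.card (Aff F) = Nat.card F * (Nat.card F - 1) := by
  rw [Nat.card_congr pairEquiv, Nat.card_prod, Nat.card_units]

theorem commutator_eq_ker {a : Fˣ} (ha : a ≠ 1) : commutator (Aff F) = slope.ker := by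
  refine le_antisymm (Abelianization.commutator_subset_ker _) fun g hg => ?_
  have hga : g.a = 1 := hg
  have ha' : (a : F) - 1 ≠ 0 := sub_ne_zero.2 fun h => ha (Units.ext h)
  have : g = ⁅(⟨0, a⟩ : Aff F), (⟨((a : F) - 1)⁻¹ * g.b, 1⟩ : Aff F)⁆ := by
    rw [commutatorElement_def, eq_mul_inv_iff_mul_eq, eq_mul_inv_iff_mul_eq]
    refine Aff.ext ?_ ?_
    · simp only [mul_b, mul_a, hga, Units.val_one, one_mul, mul_zero, add_zero, zero_add]
      field_simp
      ring
    · simp only [mul_a, hga]; rw [one_mul, one_mul, mul_one]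
  rw [this, commutator_def]
  exact Subgroup.commutator_mem_commutator (Subgroup.mem_top _) (Subgroup.mem_top _)

theorem isSolvable : Group.IsSolvable (Aff F) := by
  let inc : Multiplicative F →* Aff F :=
    { toFun := fun x => ⟨x.toAdd, 1⟩
      map_one' := rfl
      map_mul' := fun x y => Aff.ext
        (show x.toAdd + y.toAdd = x.toAdd + ((1 : Fˣ) : F) * y.toAdd by simp) (one_mul 1).symm }
  refine Group.isSolvable_of_ker_le_range inc slope ?_
  intro g hg
  exact ⟨Multiplicative.ofAdd g.b, Aff.ext rfl (show (1 : Fˣ) = g.a from hg.symm)⟩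

end Aff

/-- Irreducible characters: linear ones and the rest. -/
theorem sum_sq_nonlinear {G : Type*} [Group G] [Finite G] [Fintype (IrrCharacter G)]
    [DecidablePred fun χ : IrrCharacter G => charDegree (χ : G → ℂ) = 1] :
    (commutator G).index + ∑ χ ∈ Finset.univ.filter
      (fun χ : IrrCharacter G => ¬ charDegree (χ : G → ℂ) = 1), charDegree (χ : G → ℂ) ^ 2 =
      Nat.card G := by
  classical
  have := Fintype.ofFinite G
  have h := CharCore.sum_degree_sq (G := G)
  have h1 : ∑ χ : IrrCharacter G, charDegree (χ : G → ℂ) ^ 2 = Nat.card G := by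
    simp only [BC87.apply_one_eq] at h
    have h' : ((∑ χ : IrrCharacter G, charDegree (χ : G → ℂ) ^ 2 : ℕ) : ℂ) = (Nat.card G : ℂ) := by
      push_cast
      convert h
    exact_mod_cast h'
  rw [← h1, ← Finset.sum_filter_add_sum_filter_not Finset.univ
    (fun χ : IrrCharacter G => charDegree (χ : G → ℂ) = 1)]
  congr 1
  rw [← CharCore.card_linearCharacters,
    Finset.sum_congr rfl (g := fun _ => 1) (fun χ hχ => by rw [(Finset.mem_filter.1 hχ).2, one_pow]),
    ← Finset.card_eq_sum_ones, Nat.card_eq_fintype_card, Fintype.card_subtype]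
  congr 1
  refine Finset.filter_congr fun χ _ => ?_
  rw [BC87.apply_one_eq]
  exact Nat.cast_eq_one

theorem exists_degree_seven {F : Type} [Field F] [Fintype F] (hF : Fintype.card F = 8) :
    ∃ χ : IrrCharacter (Aff F), charDegree (χ : Aff F → ℂ) = 7 := by
  classical
  have := Fintype.ofFinite (IrrCharacter (Aff F))
  obtain ⟨a, ha⟩ : ∃ a : Fˣ, a ≠ 1 := by
    have : 1 < Fintype.card Fˣ := by rw [Fintype.card_units, hF]; norm_num
    exact Fintype.exists_ne_of_one_lt_card this 1
  have hi : (commutator (Aff F)).index = 7 := by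
    rw [Aff.commutator_eq_ker ha, Subgroup.index_ker,
      MonoidHom.range_eq_top.2 (show Function.Surjective (Aff.slope (F := F)) from
        fun x => ⟨⟨0, x⟩, rfl⟩), Subgroup.card_top, Nat.card_units, Nat.card_eq_fintype_card, hF]
  have h := sum_sq_nonlinear (G := Aff F)
  rw [hi, Aff.card, Nat.card_eq_fintype_card, hF] at h
  by_contra hne
  push Not at hne
  have heven : ∀ χ ∈ Finset.univ.filter
      (fun χ : IrrCharacter (Aff F) => ¬ charDegree (χ : Aff F → ℂ) = 1),
      2 ∣ charDegree (χ : Aff F → ℂ) ^ 2 := fun χ hχ => by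
    have h1 := (Finset.mem_filter.1 hχ).2
    have hdvd := BC87.charDegree_dvd_card χ
    rw [Aff.card, Nat.card_eq_fintype_card, hF] at hdvd
    refine dvd_pow ?_ two_ne_zero
    by_contra hodd
    have h7 : charDegree (χ : Aff F → ℂ) ∣ 7 :=
      (Nat.Coprime.pow_right 3 ((Nat.Prime.coprime_iff_not_dvd Nat.prime_two).2 hodd).symm
        ).dvd_of_dvd_mul_left hdvd
    rcases (Nat.dvd_prime (show Nat.Prime 7 by decide)).1 h7 with e | e
    · exact h1 e
    · exact hne χ e
  have := Finset.dvd_sum heven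
  omega

/-- `3^{1+2}:2`. -/
@[ext] structure Heis where
  x : ZMod 3
  y : ZMod 3
  z : ZMod 3
  e : ZMod 2
  deriving DecidableEq

namespace Heis

/-- The sign. -/
def sgn (e : ZMod 2) : ZMod 3 := if e = 0 then 1 else -1

theorem sgn_add : ∀ e e' : ZMod 2, sgn (e + e') = sgn e * sgn e' := by decide

theorem sgn_zero : sgn 0 = 1 := rfl

theorem sgn_neg : ∀ e : ZMod 2, sgn (-e) = sgn e := by decide

instance : Mul Heis :=
  ⟨fun g h => ⟨g.x + sgn g.e * h.x, g.y + h.y, g.z + sgn g.e * h.z + g.x * h.y, g.e + h.e⟩⟩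
instance : One Heis := ⟨⟨0, 0, 0, 0⟩⟩
instance : Inv Heis :=
  ⟨fun g => ⟨-(sgn g.e * g.x), -g.y, sgn g.e * (-g.z + g.x * g.y), -g.e⟩⟩

theorem mul_def (g h : Heis) : g * h =
    ⟨g.x + sgn g.e * h.x, g.y + h.y, g.z + sgn g.e * h.z + g.x * h.y, g.e + h.e⟩ := rfl
theorem one_def : (1 : Heis) = ⟨0, 0, 0, 0⟩ := rfl
theorem inv_def (g : Heis) :
    g⁻¹ = ⟨-(sgn g.e * g.x), -g.y, sgn g.e * (-g.z + g.x * g.y), -g.e⟩ := rfl

instance : Group Heis where
  mul_assoc g h k := by
    simp only [mul_def, sgn_add, Heis.mk.injEq]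
    exact ⟨by ring, by ring, by ring, by ring⟩
  one_mul g := by simp [mul_def, one_def, sgn_zero]
  mul_one g := by simp [mul_def, one_def]
  inv_mul_cancel g := by
    simp only [mul_def, one_def, inv_def, sgn_neg, Heis.mk.injEq]
    exact ⟨by ring, by ring, by ring, by ring⟩

/-- The underlying tuple. -/
def tupleEquiv : Heis ≃ ZMod 3 × ZMod 3 × ZMod 3 × ZMod 2 :=
  ⟨fun g => (g.x, g.y, g.z, g.e), fun p => ⟨p.1, p.2.1, p.2.2.1, p.2.2.2⟩, fun _ => rfl,
    fun _ => rfl⟩

instance : Fintype Heis := Fintype.ofEquiv _ tupleEquiv.symm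

theorem card : Nat.card Heis = 54 := by
  rw [Nat.card_congr tupleEquiv]
  simp

/-- The abelian quotient. -/
def proj : Heis →* Multiplicative (ZMod 3 × ZMod 2) where
  toFun g := Multiplicative.ofAdd (g.y, g.e)
  map_one' := rfl
  map_mul' _ _ := rfl

theorem commutator_eq_ker : commutator Heis = proj.ker := by
  refine le_antisymm (Abelianization.commutator_subset_ker _) fun g hg => ?_
  have h : g.y = 0 ∧ g.e = 0 := by
    have := congrArg Multiplicative.toAdd (show proj g = 1 from hg)
    exact Prod.ext_iff.1 this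
  have hc : ∀ x z : ZMod 3,
      ⁅(⟨0, 0, 0, 1⟩ : Heis), (⟨x, 0, z, 0⟩ : Heis)⁆ = ⟨x, 0, z, 0⟩ := by decide
  have : g = ⁅(⟨0, 0, 0, 1⟩ : Heis), (⟨g.x, 0, g.z, 0⟩ : Heis)⁆ := by
    rw [hc]
    ext <;> simp [h.1, h.2]
  rw [this, commutator_def]
  exact Subgroup.commutator_mem_commutator (Subgroup.mem_top _) (Subgroup.mem_top _)

theorem isSolvable : Group.IsSolvable Heis := by
  have h2 : ∀ a ∈ proj.ker, ∀ b ∈ proj.ker, a * b = b * a := by
    intro a ha b hb
    have h1 := Prod.ext_iff.1 (congrArg Multiplicative.toAdd (show proj a = 1 from ha))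
    have h2 := Prod.ext_iff.1 (congrArg Multiplicative.toAdd (show proj b = 1 from hb))
    simp only [proj, MonoidHom.coe_mk, OneHom.coe_mk, toAdd_ofAdd, toAdd_one, Prod.fst_zero,
      Prod.snd_zero] at h1 h2
    simp only [mul_def, h1.1, h1.2, h2.1, h2.2, sgn_zero, Heis.mk.injEq]
    exact ⟨by ring, trivial, by ring, trivial⟩
  have : Group.IsSolvable proj.ker :=
    Group.isSolvable_of_comm fun a b => Subtype.ext (h2 a a.2 b b.2)
  exact Group.isSolvable_of_ker_le_range proj.ker.subtype proj (by rw [Subgroup.range_subtype])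

end Heis

theorem comm_count :
    (Finset.univ.filter fun p : Heis × Heis => p.1 * p.2 = p.2 * p.1).card = 540 := by
  decide +kernel

theorem exists_degree_six : ∃ χ : IrrCharacter Heis, charDegree (χ : Heis → ℂ) = 6 := by
  classical
  have := Fintype.ofFinite (IrrCharacter Heis)
  have hi : (commutator Heis).index = 6 := by
    rw [Heis.commutator_eq_ker, Subgroup.index_ker, MonoidHom.range_eq_top.2
      (show Function.Surjective Heis.proj from fun p =>
        ⟨⟨0, p.toAdd.1, 0, p.toAdd.2⟩, rfl⟩), Subgroup.card_top]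
    simp
  have h := sum_sq_nonlinear (G := Heis)
  rw [hi, Heis.card] at h
  have hk : Nat.card (ConjClasses Heis) = 10 := by
    have h1 := card_comm_eq_card_conjClasses_mul_card Heis
    have h2 : Nat.card {p : Heis × Heis // Commute p.1 p.2} = 540 := by
      rw [Nat.card_eq_fintype_card, Fintype.card_subtype]
      convert comm_count using 2
      exact Finset.filter_congr fun x _ => Iff.rfl
    rw [h2, Heis.card] at h1
    omega
  by_contra hne
  push Not at hne
  set S := Finset.univ.filter fun χ : IrrCharacter Heis => ¬ charDegree (χ : Heis → ℂ) = 1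
  have hcard : S.card = 4 := by
    have h1 := Finset.card_filter_add_card_filter_not (s := (Finset.univ : Finset (IrrCharacter Heis)))
      (fun χ => charDegree (χ : Heis → ℂ) = 1)
    have h2 : (Finset.univ.filter fun χ : IrrCharacter Heis =>
        charDegree (χ : Heis → ℂ) = 1).card = 6 := by
      rw [← hi, ← CharCore.card_linearCharacters, Nat.card_eq_fintype_card, Fintype.card_subtype]
      refine congrArg Finset.card (Finset.filter_congr fun χ _ => ?_)
      rw [BC87.apply_one_eq]
      exact Nat.cast_eq_one.symm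
    rw [h2, Finset.card_univ, ← Nat.card_eq_fintype_card, CharCore.card_irr, hk] at h1
    show (Finset.univ.filter fun χ : IrrCharacter Heis => ¬ charDegree (χ : Heis → ℂ) = 1).card = 4
    omega
  have hle : ∀ χ ∈ S, charDegree (χ : Heis → ℂ) ^ 2 ≤ 9 := fun χ hχ => by
    have h3 : charDegree (χ : Heis → ℂ) ^ 2 ≤ 48 := by
      have h4 := Finset.single_le_sum (f := fun χ : IrrCharacter Heis =>
        charDegree (χ : Heis → ℂ) ^ 2) (fun _ _ => Nat.zero_le _) hχ
      omega
    have hdvd := BC87.charDegree_dvd_card χ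
    rw [Heis.card] at hdvd
    have h5 : charDegree (χ : Heis → ℂ) ≤ 6 := by
      by_contra hlt
      have : 7 * 7 ≤ charDegree (χ : Heis → ℂ) ^ 2 := by
        rw [pow_two]; exact Nat.mul_le_mul (by omega) (by omega)
      omega
    have hh := hne χ
    have h6 : charDegree (χ : Heis → ℂ) ≤ 3 := by
      by_contra hlt
      have : charDegree (χ : Heis → ℂ) = 4 ∨ charDegree (χ : Heis → ℂ) = 5 := by omega
      rcases this with e | e <;> · rw [e] at hdvd; norm_num at hdvd
    calc _ ≤ 3 ^ 2 := Nat.pow_le_pow_left h6 2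
      _ = 9 := by norm_num
  have := Finset.sum_le_card_nsmul S _ 9 hle
  rw [hcard, smul_eq_mul] at this
  omega

end Cfsg.Agent.UnitaryThree22
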