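import Cfsg.Agent.UnitaryThree22.Series

/-!
# The three degree divisibilities
-/

set_option autoImplicit false
set_option linter.unusedSectionVars false

open scoped ComplexConjugate Classical
open Cfsg

namespace Cfsg.Agent.UnitaryThree22.Datum

universe u

variable {G : Type u} [Group G] [Fintype G] (D : Datum G)

include D

theorem commutator_U_le :
    commutator D.U ≤ (Subgroup.zpowers D.z).subgroupOf D.U := by
  rw [commutator_def, Subgroup.commutator_le]
  intro x _ y _
  exact D.commutator_mem x x.2 y y.2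

theorem card_Z : Nat.card (Subgroup.zpowers D.z) = 3 := by
  rw [Nat.card_zpowers]
  exact orderOf_eq_prime D.z_pow D.z_ne

theorem Z_le : Subgroup.zpowers D.z ≤ D.U := Subgroup.zpowers_le.2 D.z_mem

theorem hom_eq_one_of_mem_Z (f : D.U →* ℂˣ) {x : D.U} (hx : (x : G) ∈ Subgroup.zpowers D.z) :
    f x = 1 := by
  obtain ⟨a, ha, b, hb, hab⟩ := D.z_commutator
  obtain ⟨i, hi⟩ := Subgroup.mem_zpowers_iff.1 hx
  have : x = ((⟨a, ha⟩ : D.U) * ⟨b, hb⟩ * ⟨a, ha⟩⁻¹ * ⟨b, hb⟩⁻¹) ^ i := Subtype.ext (by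
    push_cast; rw [hab, hi])
  rw [this, map_zpow, map_mul, map_mul, map_mul, map_inv, map_inv, mul_inv_cancel_comm,
    mul_inv_cancel, one_zpow]

theorem exists_psi : ∃ f : D.U →* ℂˣ, f ≠ 1 := by
  have h := CharCore.card_linearCharacters (G := D.U)
  rw [← Nat.card_congr CharCore.linearEquivHom] at h
  by_contra hne
  push Not at hne
  have : Subsingleton (D.U →* ℂˣ) := ⟨fun f g => (hne f).trans (hne g).symm⟩
  rw [Nat.card_unique, eq_comm, Subgroup.index_eq_one] at h
  have h2 : (⊤ : Subgroup D.U) ≤ (Subgroup.zpowers D.z).subgroupOf D.U := h ▸ D.commutator_U_le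
  have h3 : D.U ≤ Subgroup.zpowers D.z := fun x hx => h2 (x := ⟨x, hx⟩) (Subgroup.mem_top _)
  have h4 := Subgroup.card_le_of_le h3
  rw [D.card_U, D.card_Z] at h4
  omega

/-- A fixed nontrivial linear character of `U`. -/
noncomputable def psi : D.U → ℂ := fun u => (Classical.choose D.exists_psi u : ℂˣ)

theorem psi_isIrr : IsIrrCharacter D.U D.psi := CharCore.isIrrCharacter_hom _

theorem psi_ne : D.psi ≠ 1 := fun h => Classical.choose_spec D.exists_psi
  (MonoidHom.ext fun u => Units.ext (by simpa [psi] using congrFun h u))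

/-- Multiplicity of `ρ^k` in the restriction to `B`. -/
noncomputable def mulB (k : ℕ) (χ : IrrCharacter G) : ℕ :=
  Classical.choose (CharCore.IsCharacter.exists_classInner_eq_natCast
    (CharCore.isCharacter_restrict (CharCore.irr_isCharacter χ) D.B)
    (CharCore.IsIrrCharacter.isCharacter (D.lam_isIrr k)))

theorem mulB_spec (k : ℕ) (χ : IrrCharacter G) :
    classInner (fun b : D.B => (χ : G → ℂ) b) (D.lam k) = D.mulB k χ :=
  Classical.choose_spec (CharCore.IsCharacter.exists_classInner_eq_natCast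
    (CharCore.isCharacter_restrict (CharCore.irr_isCharacter χ) D.B)
    (CharCore.IsIrrCharacter.isCharacter (D.lam_isIrr k)))

/-- Multiplicity of the trivial character in the restriction to `U`. -/
noncomputable def mulOne (χ : IrrCharacter G) : ℕ :=
  Classical.choose (CharCore.IsCharacter.exists_classInner_eq_natCast
    (CharCore.isCharacter_restrict (CharCore.irr_isCharacter χ) D.U)
    CharCore.isCharacter_one)

theorem mulOne_spec (χ : IrrCharacter G) :
    classInner (fun u : D.U => (χ : G → ℂ) u) 1 = D.mulOne χ :=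
  Classical.choose_spec (CharCore.IsCharacter.exists_classInner_eq_natCast
    (CharCore.isCharacter_restrict (CharCore.irr_isCharacter χ) D.U)
    CharCore.isCharacter_one)

/-- Multiplicity of `ψ` in the restriction to `U`. -/
noncomputable def mulPsi (χ : IrrCharacter G) : ℕ :=
  Classical.choose (CharCore.IsCharacter.exists_classInner_eq_natCast
    (CharCore.isCharacter_restrict (CharCore.irr_isCharacter χ) D.U)
    (CharCore.IsIrrCharacter.isCharacter D.psi_isIrr))

theorem mulPsi_spec (χ : IrrCharacter G) :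
    classInner (fun u : D.U => (χ : G → ℂ) u) D.psi = D.mulPsi χ :=
  Classical.choose_spec (CharCore.IsCharacter.exists_classInner_eq_natCast
    (CharCore.isCharacter_restrict (CharCore.irr_isCharacter χ) D.U)
    (CharCore.IsIrrCharacter.isCharacter D.psi_isIrr))

/-! ### The shape `d = l + 8 m + 6 j` -/

theorem conj_tau_Z : ∀ (i : ℕ) {t : G}, t ∈ Subgroup.zpowers D.z →
    D.tau ^ i * t * (D.tau ^ i)⁻¹ ∈ Subgroup.zpowers D.z
  | 0, t, ht => by simpa using ht
  | i + 1, t, ht => by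
    have h1 := conj_tau_Z i ht
    obtain ⟨j, hj⟩ := Subgroup.mem_zpowers_iff.1 h1
    have e : D.tau ^ (i + 1) * t * (D.tau ^ (i + 1))⁻¹ = (D.tau * D.z * D.tau⁻¹) ^ j := by
      rw [conj_zpow, hj, pow_succ']; group
    rw [e, D.z_inv]
    exact Subgroup.zpow_mem _ (inv_mem (Subgroup.mem_zpowers D.z)) _

open scoped Classical in
/-- Sum of `χ` over a coset of `Z`. -/
noncomputable def cosetSum (χ : IrrCharacter G) (x : G) : ℂ :=
  ∑ t : Subgroup.zpowers D.z, (χ : G → ℂ) (x * t)

theorem cosetSum_mul_right (χ : IrrCharacter G) (x : G) {t : G} (ht : t ∈ Subgroup.zpowers D.z) :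
    D.cosetSum χ (x * t) = D.cosetSum χ x := by
  classical
  refine Fintype.sum_equiv (Equiv.mulLeft (⟨t, ht⟩ : Subgroup.zpowers D.z)) _ _ fun s => ?_
  simp [mul_assoc]

theorem cosetSum_conj (χ : IrrCharacter G) (x : G) (i : ℕ) :
    D.cosetSum χ (D.tau ^ i * x * (D.tau ^ i)⁻¹) = D.cosetSum χ x := by
  classical
  let φ : Subgroup.zpowers D.z → Subgroup.zpowers D.z := fun t =>
    ⟨D.tau ^ i * t * (D.tau ^ i)⁻¹, D.conj_tau_Z i t.2⟩
  have hφ : Function.Bijective φ := Finite.injective_iff_bijective.1 fun a b h => Subtype.ext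
    (by simpa [φ] using congrArg (fun t : Subgroup.zpowers D.z => (t : G)) h)
  unfold cosetSum
  rw [← (Equiv.ofBijective φ hφ).sum_comp]
  refine Finset.sum_congr rfl fun t _ => ?_
  show (χ : G → ℂ) (D.tau ^ i * x * (D.tau ^ i)⁻¹ * (D.tau ^ i * t * (D.tau ^ i)⁻¹)) = _
  rw [show D.tau ^ i * x * (D.tau ^ i)⁻¹ * (D.tau ^ i * t * (D.tau ^ i)⁻¹) =
    D.tau ^ i * (x * t) * (D.tau ^ i)⁻¹ by group]
  exact CharCore.irr_isClassFunction χ _ _

theorem exists_notMem_Z : ∃ x ∈ D.U, x ∉ Subgroup.zpowers D.z := by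
  by_contra h
  push Not at h
  have h4 := Subgroup.card_le_of_le (show D.U ≤ _ from h)
  rw [D.card_U, D.card_Z] at h4
  omega

theorem cosetSum_eq (χ : IrrCharacter G) {x : G} (hxU : x ∈ D.U)
    (hx : x ∉ Subgroup.zpowers D.z) :
    D.cosetSum χ x = D.cosetSum χ (Classical.choose D.exists_notMem_Z) := by
  obtain ⟨hyU, hy⟩ := Classical.choose_spec D.exists_notMem_Z
  set y := Classical.choose D.exists_notMem_Z
  obtain ⟨i, hi⟩ := D.transitive x hxU y hyU hx hy
  rw [← D.cosetSum_conj χ x i]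
  obtain ⟨j, hj⟩ := Subgroup.mem_zpowers_iff.1 hi
  have : D.tau ^ i * x * (D.tau ^ i)⁻¹ = y * D.z ^ j := by
    have hc : Commute D.z y := D.z_comm y hyU
    rw [← (hc.zpow_left j).eq, hj]; group
  rw [this, D.cosetSum_mul_right χ y (Subgroup.zpow_mem _ (Subgroup.mem_zpowers _) j)]

open scoped Classical in
theorem three_mul_sum (χ : IrrCharacter G) (f : D.U →* ℂˣ) :
    3 * ∑ u : D.U, (χ : G → ℂ) u * conj ((f u : ℂˣ) : ℂ) =
      D.cosetSum χ (Classical.choose D.exists_notMem_Z) * (∑ u : D.U, conj ((f u : ℂˣ) : ℂ)) +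
      3 * (D.cosetSum χ 1 - D.cosetSum χ (Classical.choose D.exists_notMem_Z)) := by
  set c := D.cosetSum χ (Classical.choose D.exists_notMem_Z)
  have h3 : Fintype.card (Subgroup.zpowers D.z) = 3 := by
    rw [← Nat.card_eq_fintype_card, D.card_Z]
  have h1 : 3 * ∑ u : D.U, (χ : G → ℂ) u * conj ((f u : ℂˣ) : ℂ) =
      ∑ u : D.U, D.cosetSum χ u * conj ((f u : ℂˣ) : ℂ) := by
    have : ∀ t : Subgroup.zpowers D.z, ∑ u : D.U, (χ : G → ℂ) ((u : G) * t) *
        conj ((f u : ℂˣ) : ℂ) = ∑ u : D.U, (χ : G → ℂ) u * conj ((f u : ℂˣ) : ℂ) := fun t => by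
      refine Fintype.sum_equiv (Equiv.mulRight (⟨t, D.Z_le t.2⟩ : D.U)) _ _ fun u => ?_
      simp [D.hom_eq_one_of_mem_Z f (x := ⟨t, D.Z_le t.2⟩) t.2]
    simp only [cosetSum, Finset.sum_mul]
    rw [Finset.sum_comm]
    simp only [this, Finset.sum_const, Finset.card_univ, h3, nsmul_eq_mul]
    norm_num
  rw [h1]
  have h2 : ∀ u : D.U, D.cosetSum χ u * conj ((f u : ℂˣ) : ℂ) = c * conj ((f u : ℂˣ) : ℂ) +
      if (u : G) ∈ Subgroup.zpowers D.z then D.cosetSum χ 1 - c else 0 := fun u => by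
    split_ifs with h
    · rw [D.hom_eq_one_of_mem_Z f h, ← one_mul (u : G), D.cosetSum_mul_right χ 1 h]
      simp
    · rw [D.cosetSum_eq χ u.2 h, add_zero]
  simp only [h2, Finset.sum_add_distrib, ← Finset.mul_sum, Finset.sum_ite, Finset.sum_const_zero,
    add_zero, Finset.sum_const, nsmul_eq_mul]
  congr 2
  have : (Finset.univ.filter fun u : D.U => (u : G) ∈ Subgroup.zpowers D.z).card = 3 := by
    rw [← h3, ← Finset.card_univ]
    exact Finset.card_bij (fun u hu => ⟨u, (Finset.mem_filter.1 hu).2⟩) (fun _ _ => Finset.mem_univ _)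
      (fun a _ b _ h => Subtype.ext (by simpa using h))
      (fun t _ => ⟨⟨t, D.Z_le t.2⟩, by simp, rfl⟩)
  rw [this]
  norm_num

theorem cosetSum_one (χ : IrrCharacter G) :
    D.cosetSum χ 1 = 3 * ((D.mulOne χ : ℂ) + 8 * D.mulPsi χ) := by
  classical
  have h1 := D.three_mul_sum χ 1
  have h2 := D.three_mul_sum χ (Classical.choose D.exists_psi)
  have hsum : ∑ u : D.U, conj (D.psi u) = 0 := by
    have := CharCore.classInner_irr_of_ne (χ := ⟨1, CharCore.isIrrCharacter_one⟩)
      (ψ := ⟨D.psi, D.psi_isIrr⟩) fun h => D.psi_ne (congrArg Subtype.val h).symm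
    simpa [classInner, D.card_U] using this
  have hl := D.mulOne_spec χ
  have hm := D.mulPsi_spec χ
  simp only [classInner, D.card_U, psi, Pi.one_apply, map_one, mul_one, Nat.cast_ofNat] at hl hm hsum
  simp only [MonoidHom.one_apply, Units.val_one, map_one, Finset.sum_const, Finset.card_univ,
    ← Nat.card_eq_fintype_card, D.card_U, nsmul_eq_mul, mul_one] at h1
  rw [hsum, mul_zero, zero_add] at h2
  push_cast at h1
  linear_combination (-(1 : ℂ) / 27) * h1 - (8 / 27 : ℂ) * h2 + 3 * hl + 24 * hm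

theorem z_central : (⟨D.z, D.z_mem⟩ : D.U) ∈ Subgroup.center D.U :=
  Subgroup.mem_center_iff.2 fun g => Subtype.ext (D.z_comm g g.2).symm

theorem sum_Z (χ : IrrCharacter G) :
    D.cosetSum χ 1 = (χ : G → ℂ) 1 + (χ : G → ℂ) D.z + (χ : G → ℂ) (D.z ^ 2) := by
  classical
  have ho : orderOf D.z = 3 := orderOf_eq_prime D.z_pow D.z_ne
  unfold cosetSum
  rw [← Equiv.sum_comp (finEquivZPowers (isOfFinOrder_of_finite D.z))]
  simp only [finEquivZPowers_apply, one_mul]
  rw [Fin.sum_univ_eq_sum_range (fun i => (χ : G → ℂ) (D.z ^ i)), ho]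
  simp [Finset.sum_range_succ]

theorem irr_U_mod_three (θ : IrrCharacter D.U) :
    ∃ a b : ℕ, ((θ : D.U → ℂ) 1 + (θ : D.U → ℂ) ⟨D.z, D.z_mem⟩ +
      (θ : D.U → ℂ) (⟨D.z, D.z_mem⟩ ^ 2)) = 3 * a ∧ (θ : D.U → ℂ) 1 = (a + 3 * b : ℕ) := by
  classical
  obtain ⟨n, ρ, hρ, h⟩ := θ.2
  have h1 : (θ : D.U → ℂ) 1 = n := by rw [← h]; simp
  obtain ⟨c, hc⟩ := CharClifford.exists_scalar_of_mem_center ρ D.z_central
  have hk : ∀ k : ℕ, (θ : D.U → ℂ) (⟨D.z, D.z_mem⟩ ^ k) = c ^ k * n := fun k => by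
    rw [← h, Representation.character, map_pow, hc, smul_pow, one_pow,
      CharClifford.scalar_eq_of_trace rfl]
    simp
  have hn : 0 < n := by simpa using CharCore.finrank_pos_of_irreducible ρ
  have hc3 : c ^ 3 = 1 := by
    have h3 := hk 3
    rw [show (⟨D.z, D.z_mem⟩ : D.U) ^ 3 = 1 from Subtype.ext D.z_pow, h1] at h3
    exact mul_right_cancel₀ (Nat.cast_ne_zero.2 hn.ne' : (n : ℂ) ≠ 0) (by linear_combination -h3)
  have hz := hk 1
  rw [pow_one, pow_one] at hz
  rw [h1, hz, hk 2]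
  by_cases hc1 : c = 1
  · exact ⟨n, 0, by rw [hc1]; ring, by simp⟩
  have hc0 : 1 + c + c ^ 2 = 0 :=
    (mul_eq_zero.1 (show (c - 1) * (1 + c + c ^ 2) = 0 by linear_combination hc3)).resolve_left
      (sub_ne_zero.2 hc1)
  have hdvd : n ∣ 27 := by
    have := BC87.charDegree_dvd_card θ
    rwa [BC87.charDegree_eq h1, D.card_U] at this
  have hne : n ≠ 1 := by
    rintro rfl
    obtain ⟨f, hf⟩ := CharCore.IsCharacter.exists_hom_of_degree_one (CharCore.irr_isCharacter θ)
      (by simpa using h1)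
    have := congrFun hf ⟨D.z, D.z_mem⟩
    rw [hz, D.hom_eq_one_of_mem_Z f (Subgroup.mem_zpowers D.z)] at this
    exact hc1 (by simpa using this)
  obtain ⟨k, hk3⟩ := (Nat.dvd_prime_pow Nat.prime_three).1 (show n ∣ 3 ^ 3 by norm_num; exact hdvd)
  obtain ⟨b, hb⟩ : 3 ∣ n := by
    rcases k with _ | k
    · exact absurd hk3.2 hne
    · exact hk3.2 ▸ dvd_pow_self 3 (by omega)
  refine ⟨0, b, ?_, by simp [hb]⟩
  linear_combination (n : ℂ) * hc0

/-- The degree is `l + 8 m` plus a multiple of six. -/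
theorem degree_shape (χ : IrrCharacter G) :
    ∃ j : ℕ, charDegree (χ : G → ℂ) = D.mulOne χ + 8 * D.mulPsi χ + 6 * j := by
  classical
  set d := charDegree (χ : G → ℂ)
  set s := D.mulOne χ + 8 * D.mulPsi χ
  have hd : (χ : G → ℂ) 1 = d := BC87.apply_one_eq χ
  have hs : D.cosetSum χ 1 = 3 * (s : ℂ) := by
    rw [D.cosetSum_one]; push_cast [s]; ring
  obtain ⟨m, hm⟩ := CharCore.IsCharacter.exists_sum
    (CharCore.isCharacter_restrict (CharCore.irr_isCharacter χ) D.U)
  choose a b ha hb using D.irr_U_mod_three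
  have hval : ∀ x : D.U, (χ : G → ℂ) x = ∑ θ, (m θ : ℂ) * (θ : D.U → ℂ) x := fun x => by
    simpa using congrFun hm x
  have e1 : (d : ℂ) = ((∑ θ, m θ * a θ) + 3 * ∑ θ, m θ * b θ : ℕ) := by
    rw [← hd]
    have := hval 1
    rw [Subgroup.coe_one] at this
    rw [this, Finset.mul_sum, ← Finset.sum_add_distrib]
    push_cast
    exact Finset.sum_congr rfl fun θ _ => by rw [hb]; push_cast; ring
  have e2 : D.cosetSum χ 1 = 3 * ((∑ θ, m θ * a θ : ℕ) : ℂ) := by
    have h0 := hval 1
    have h1 := hval ⟨D.z, D.z_mem⟩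
    have h2 := hval (⟨D.z, D.z_mem⟩ ^ 2)
    rw [Subgroup.coe_one] at h0
    rw [SubgroupClass.coe_pow] at h2
    rw [D.sum_Z, h0, h1, h2, ← Finset.sum_add_distrib, ← Finset.sum_add_distrib]
    push_cast
    rw [Finset.mul_sum]
    exact Finset.sum_congr rfl fun θ _ => by linear_combination (m θ : ℂ) * ha θ
  have h3 : d = s + 3 * ∑ θ, m θ * b θ := by
    have hs' : s = ∑ θ, m θ * a θ := by
      have := hs.symm.trans e2
      exact_mod_cast mul_left_cancel₀ (by norm_num : (3 : ℂ) ≠ 0) this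
    rw [hs']
    exact_mod_cast e1
  -- parity
  have hinv : (χ : G → ℂ) (D.z ^ 2) = (χ : G → ℂ) D.z := by
    have h := CharCore.irr_isClassFunction χ D.z D.tau
    rw [D.z_inv] at h
    rw [← h]
    exact congrArg _ (inv_eq_of_mul_eq_one_left
      (show D.z ^ 2 * D.z = 1 by rw [← pow_succ]; exact D.z_pow)).symm
  have hzval : (χ : G → ℂ) D.z = (((3 * (s : ℤ) - d : ℤ) : ℚ) / 2 : ℚ) := by
    have h := D.sum_Z χ
    rw [hinv, hs, hd] at h
    push_cast
    linear_combination (-1 / 2 : ℂ) * h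
  obtain ⟨k, hk⟩ := CharClifford.exists_int_of_isIntegral_rat
    (hzval ▸ CharCore.IsCharacter.isIntegral (CharCore.irr_isCharacter χ) D.z)
  have h2 : (3 * (s : ℤ) - d) = 2 * k := by
    have : ((3 * (s : ℤ) - d : ℤ) : ℚ) = ((2 * k : ℤ) : ℚ) := by
      push_cast; push_cast at hk; linarith
    exact_mod_cast this
  refine ⟨(∑ θ, m θ * b θ) / 2, ?_⟩
  omega

/-! ### Sums over all irreducible characters -/

theorem sum_degree_mul_inner (φ : D.U → ℂ) (h1 : φ 1 = 1) :
    ∑ χ : IrrCharacter G, (χ : G → ℂ) 1 * classInner (fun u : D.U => (χ : G → ℂ) u) φ = 224 := by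
  classical
  simp only [classInner, D.card_U, Finset.mul_sum]
  rw [Finset.sum_comm]
  calc _ = ∑ u : D.U, (27 : ℂ)⁻¹ * conj (φ u) *
        ∑ χ : IrrCharacter G, (χ : G → ℂ) 1 * (χ : G → ℂ) u := by
          simp only [Finset.mul_sum]
          exact Finset.sum_congr rfl fun u _ => Finset.sum_congr rfl fun χ _ => by push_cast; ring
    _ = 224 := by
      simp only [CharCore.sum_degree_mul_apply]
      rw [Finset.sum_eq_single (1 : D.U) (fun u _ hu => by
        rw [if_neg (show ¬ ((u : G) = 1) from fun h => hu (Subtype.ext h)), mul_zero]) (by simp)]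
      simp [h1, ← Nat.card_eq_fintype_card, D.card_G]
      norm_num

theorem sum_degree_mulPsi :
    ∑ χ : IrrCharacter G, charDegree (χ : G → ℂ) * D.mulPsi χ = 224 := by
  have h := D.sum_degree_mul_inner D.psi (by simp [psi])
  simp only [D.mulPsi_spec, BC87.apply_one_eq] at h
  exact_mod_cast h

theorem sum_sq : ∑ χ : IrrCharacter G, charDegree (χ : G → ℂ) ^ 2 = 6048 := by
  have h := CharCore.sum_degree_sq (G := G)
  simp only [BC87.apply_one_eq, D.card_G] at h
  exact_mod_cast h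

/-! ### The induced characters -/

theorem inner_ser_irr (k : ℕ) (χ : IrrCharacter G) :
    classInner (D.ser k) χ = D.mulB k χ := by
  rw [ser, CharInd.classInner_indFun_left _ _ (CharCore.irr_isClassFunction χ),
    ← CharInd.classInner_swap, D.mulB_spec]
  exact Complex.conj_natCast _

theorem mulOne_eq_sum (χ : IrrCharacter G) :
    D.mulOne χ = ∑ k ∈ Finset.range 8, D.mulB k χ := by
  classical
  have h : (D.mulOne χ : ℂ) = ∑ k ∈ Finset.range 8, (D.mulB k χ : ℂ) := by
    simp only [← D.mulOne_spec, ← D.mulB_spec, classInner, D.card_U, D.card_B, Finset.mul_sum]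
    rw [Finset.sum_comm]
    have hs : ∀ b : D.B, ∑ k ∈ Finset.range 8, ((216 : ℕ) : ℂ)⁻¹ * ((χ : G → ℂ) b *
        conj (D.lam k b)) = if (b : G) ∈ D.U then (27 : ℂ)⁻¹ * (χ : G → ℂ) b else 0 := by
      intro b
      simp only [← Finset.mul_sum]
      split_ifs with hb
      · simp [D.lam_of_mem _ hb]
        ring
      · have hne : conj ((D.ρ b : ℂˣ) : ℂ) ≠ 1 := fun e => hb ((D.ρ_eq_one b).1 (Units.ext (by
          simpa using congrArg conj e)))
        have h8 : (conj ((D.ρ b : ℂˣ) : ℂ)) ^ 8 = 1 := by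
          rw [← map_pow, D.rho_pow_eight, map_one]
        simp only [lam, map_pow]
        rw [geom_sum_eq hne, h8, sub_self, zero_div, mul_zero, mul_zero]
    rw [Finset.sum_congr rfl (fun b _ => hs b), Finset.sum_ite, Finset.sum_const_zero, add_zero]
    simp only [Pi.one_apply, map_one, mul_one]
    refine Finset.sum_bij' (fun u _ => ⟨u, D.U_le u.2⟩)
      (fun b hb => ⟨b, (Finset.mem_filter.1 hb).2⟩) (fun u _ => by simp)
      (fun b _ => Finset.mem_univ _) (fun u _ => rfl) (fun b _ => rfl) (fun u _ => by push_cast; rfl)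
  exact_mod_cast h

theorem ser_apply_U (k : ℕ) (u : D.U) :
    D.ser k u = 1 + if (u : G) = 1 then 27 else 0 := by
  classical
  rw [ser, CharInd.indFun_apply, D.sum_split, D.card_B]
  have e1 : ∀ b : D.B, extendByZero D.B (D.lam k) ((b : G)⁻¹ * u * b) = 1 := fun b => by
    rw [show ((b : G)⁻¹ * u * b) = ((b⁻¹ : D.B) : G) * u * ((b⁻¹ : D.B) : G)⁻¹ by simp,
      CharInd.extendByZero_conj_mem (D.lam_isClass k), CharInd.extendByZero_mem _ (D.U_le u.2)]
    exact D.lam_of_mem k u.2
  have e2 : ∀ c d : D.B, extendByZero D.B (D.lam k)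
      (((c : G) * D.w * d)⁻¹ * u * ((c : G) * D.w * d)) = if (u : G) = 1 then 1 else 0 := by
    intro c d
    split_ifs with hu
    · rw [hu, mul_one, inv_mul_cancel, CharInd.extendByZero_mem _ (one_mem _)]
      exact D.lam_one k
    · refine CharInd.extendByZero_notMem _ fun h => hu ?_
      have hb : D.w⁻¹ * ((c : G)⁻¹ * u * c) * D.w ∈ D.B := by
        have := mul_mem (mul_mem d.2 h) (inv_mem d.2)
        simpa [mul_assoc] using this
      have hU : (c : G)⁻¹ * u * c ∈ D.U := by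
        have h1 : D.ρ (c⁻¹ * ⟨u, D.U_le u.2⟩ * c) = 1 := by
          rw [map_mul, map_mul, (D.ρ_eq_one ⟨u, D.U_le u.2⟩).2 u.2, mul_one, map_inv,
            inv_mul_cancel]
        simpa using (D.ρ_eq_one _).1 h1
      have hT := (D.inter _).1 ⟨hb, by simpa [mul_assoc] using D.U_le hU⟩
      obtain ⟨i, hi⟩ := Subgroup.mem_zpowers_iff.1 hT
      have hu1 : (c : G)⁻¹ * u * c ∈ Subgroup.zpowers D.tau := by
        have : (c : G)⁻¹ * u * c = (D.w * D.tau * D.w⁻¹) ^ i := by
          rw [conj_zpow, hi]; group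
        rw [this, D.w_tau]
        exact Subgroup.zpow_mem _ (Subgroup.pow_mem _ (Subgroup.mem_zpowers _) 5) i
      have := D.inter_eq_one hU hu1
      exact (conj_eq_one_iff (a := (c : G)⁻¹)).1 (by simpa using this)
  simp only [e1, e2, Finset.sum_const, Finset.card_univ, ← Nat.card_eq_fintype_card, D.card_B,
    nsmul_eq_mul]
  split_ifs <;> norm_num

theorem ser_inner_U (k : ℕ) (φ : D.U → ℂ) (h1 : φ 1 = 1) :
    classInner (fun u : D.U => D.ser k u) φ = classInner (1 : D.U → ℂ) φ + 1 := by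
  classical
  simp only [classInner, D.ser_apply_U, add_mul, Finset.sum_add_distrib, Pi.one_apply, mul_add]
  congr 1
  rw [Finset.sum_eq_single (1 : D.U) (fun u _ hu => by
    rw [if_neg (show ¬ ((u : G) = 1) from fun h => hu (Subtype.ext h)), zero_mul]) (by simp)]
  simp [h1, ← Nat.card_eq_fintype_card, D.card_U]

theorem ser_eq_sum (k : ℕ) :
    D.ser k = ∑ χ : IrrCharacter G, (D.mulB k χ : ℂ) • (χ : G → ℂ) := by
  conv_lhs => rw [CharCore.IsCharacter.eq_sum_classInner (D.ser_isChar k)]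
  simp only [D.inner_ser_irr]

theorem sum_mulB_mulOne (k : ℕ) :
    ∑ χ : IrrCharacter G, D.mulB k χ * D.mulOne χ = 2 := by
  have h := D.ser_inner_U k 1 rfl
  have e : (fun u : D.U => D.ser k u) =
      ∑ χ : IrrCharacter G, (D.mulB k χ : ℂ) • (fun u : D.U => (χ : G → ℂ) u) := by
    funext u
    rw [congrFun (D.ser_eq_sum k) u]
    simp
  rw [e, CharCore.classInner_sum_left] at h
  simp only [CharCore.classInner_smul_left, D.mulOne_spec] at h
  rw [CharCore.classInner_irr_self ⟨1, CharCore.isIrrCharacter_one⟩] at h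
  have : ((∑ χ : IrrCharacter G, D.mulB k χ * D.mulOne χ : ℕ) : ℂ) = (2 : ℕ) := by
    push_cast; rw [h]; norm_num
  exact_mod_cast this

theorem sum_mulB_mulPsi (k : ℕ) :
    ∑ χ : IrrCharacter G, D.mulB k χ * D.mulPsi χ = 1 := by
  have h := D.ser_inner_U k D.psi (by simp [psi])
  have e : (fun u : D.U => D.ser k u) =
      ∑ χ : IrrCharacter G, (D.mulB k χ : ℂ) • (fun u : D.U => (χ : G → ℂ) u) := by
    funext u
    rw [congrFun (D.ser_eq_sum k) u]
    simp
  rw [e, CharCore.classInner_sum_left] at h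
  simp only [CharCore.classInner_smul_left, D.mulPsi_spec] at h
  rw [CharCore.classInner_irr_of_ne (χ := ⟨1, CharCore.isIrrCharacter_one⟩)
    (ψ := ⟨D.psi, D.psi_isIrr⟩) fun h => D.psi_ne (congrArg Subtype.val h).symm, zero_add] at h
  have : ((∑ χ : IrrCharacter G, D.mulB k χ * D.mulPsi χ : ℕ) : ℂ) = (1 : ℕ) := by
    push_cast; rw [h]
  exact_mod_cast this

theorem sum_mulB_degree (k : ℕ) :
    ∑ χ : IrrCharacter G, D.mulB k χ * charDegree (χ : G → ℂ) = 28 := by
  have h : D.ser k 1 = 28 := by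
    have := D.ser_apply_U k 1
    simp only [Subgroup.coe_one, if_true] at this
    rw [this]; norm_num
  rw [congrFun (D.ser_eq_sum k) 1] at h
  simp only [Finset.sum_apply, Pi.smul_apply, smul_eq_mul, BC87.apply_one_eq] at h
  exact_mod_cast h

theorem sum_mulB_sq (k : ℕ) :
    ∑ χ : IrrCharacter G, D.mulB k χ * D.mulB k χ = if Even k then 2 else 1 := by
  classical
  have h := D.inner_ser k k
  rw [D.ser_eq_sum k, CharCore.classInner_sum_sum] at h
  simp only [Complex.conj_natCast, if_true] at h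
  have : ((∑ χ : IrrCharacter G, D.mulB k χ * D.mulB k χ : ℕ) : ℂ) =
      ((if Even k then 2 else 1 : ℕ) : ℂ) := by
    push_cast
    rw [h]
    by_cases hk : Even k
    · rw [if_pos hk, if_pos (by obtain ⟨a, rfl⟩ := hk; omega)]; norm_num
    · rw [if_neg hk, if_neg (by rw [Nat.even_iff] at hk; omega)]; norm_num
  exact_mod_cast this

theorem mulB_le_mulOne {k : ℕ} (hk : k < 8) (χ : IrrCharacter G) :
    D.mulB k χ ≤ D.mulOne χ := by
  rw [D.mulOne_eq_sum]
  exact Finset.single_le_sum (f := fun k => D.mulB k χ) (fun _ _ => Nat.zero_le _)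
    (Finset.mem_range.2 hk)

/-- The constituents in the odd case. -/
theorem odd_series {k : ℕ} (hk : ¬ Even k) :
    ∃ χ : IrrCharacter G, D.mulB k χ = 1 ∧ (∀ φ, φ ≠ χ → D.mulB k φ = 0) ∧
      charDegree (χ : G → ℂ) = 28 ∧ D.mulPsi χ = 1 ∧ D.mulOne χ = 2 := by
  classical
  have h := D.sum_mulB_sq k
  rw [if_neg hk] at h
  obtain ⟨χ, -, hχ⟩ := Finset.exists_ne_zero_of_sum_ne_zero (h.trans_ne one_ne_zero)
  have h3 := Finset.add_sum_erase Finset.univ (fun φ => D.mulB k φ * D.mulB k φ)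
    (Finset.mem_univ χ)
  simp only [h] at h3
  have h4 : 1 ≤ D.mulB k χ * D.mulB k χ := Nat.one_le_iff_ne_zero.2 hχ
  have hsq : D.mulB k χ = 1 := Nat.eq_one_of_mul_eq_one_left (by omega : D.mulB k χ * D.mulB k χ = 1)
  have hrest : ∀ φ, φ ≠ χ → D.mulB k φ = 0 := fun φ hφ => by
    have h5 : ∑ φ ∈ Finset.univ.erase χ, D.mulB k φ * D.mulB k φ = 0 := by omega
    simpa using Finset.sum_eq_zero_iff.1 h5 φ (by simp [hφ])
  have key : ∀ f : IrrCharacter G → ℕ, ∑ φ, D.mulB k φ * f φ = f χ := fun f => by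
    rw [Finset.sum_eq_single χ (fun φ _ hφ => by simp [hrest φ hφ]) (by simp), hsq, one_mul]
  exact ⟨χ, hsq, hrest, (key _).symm.trans (D.sum_mulB_degree k),
    (key _).symm.trans (D.sum_mulB_mulPsi k), (key _).symm.trans (D.sum_mulB_mulOne k)⟩

theorem triv_mulB (k : ℕ) : D.mulB k (BC87.triv G) = if k % 8 = 0 then 1 else 0 := by
  classical
  have h := CharCore.classInner_irr (G := D.B) ⟨_, D.lam_isIrr 0⟩ ⟨_, D.lam_isIrr k⟩
  have e : (fun b : D.B => (BC87.triv G : G → ℂ) b) = D.lam 0 := by funext b; simp [lam]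
  have hm := D.mulB_spec k (BC87.triv G)
  rw [e, h] at hm
  have : ((if k % 8 = 0 then 1 else 0 : ℕ) : ℂ) = (D.mulB k (BC87.triv G) : ℂ) := by
    rw [← hm]
    push_cast
    refine if_congr ⟨fun hk => Subtype.ext (funext fun b => ?_), fun hk => ?_⟩ rfl rfl
    · show ((D.ρ b : ℂˣ) : ℂ) ^ 0 = ((D.ρ b : ℂˣ) : ℂ) ^ k
      rw [pow_eq_pow_mod k (D.rho_pow_eight b), hk]
    · have h1 := congrFun (congrArg Subtype.val hk) ⟨D.tau ^ 1, pow_mem D.tau_mem 1⟩
      simp only [lam_tau_pow, one_mul, pow_zero] at h1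
      exact Nat.mod_eq_zero_of_dvd ((D.ρ_tau.pow_eq_one_iff_dvd k).1 h1.symm) |> id
  exact_mod_cast this.symm

theorem eq_triv_of_degree_one (χ : IrrCharacter G) (h : charDegree (χ : G → ℂ) = 1) :
    χ = BC87.triv G := by
  have h1 : (χ : G → ℂ) 1 = 1 := by rw [BC87.apply_one_eq, h, Nat.cast_one]
  obtain ⟨f, hf⟩ := CharCore.IsCharacter.exists_hom_of_degree_one (CharCore.irr_isCharacter χ) h1
  refine Subtype.ext (funext fun g => ?_)
  have hg : g ∈ f.ker := by
    have hle : commutator G ≤ f.ker := Abelianization.commutator_subset_ker f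
    rw [D.perfect] at hle
    exact hle (Subgroup.mem_top g)
  rw [hf]
  simp [(MonoidHom.mem_ker).1 hg]

/-- The constituents in the even case. -/
theorem even_series {k : ℕ} (hk8 : k < 8) (hk : Even k) :
    ∃ a b : IrrCharacter G, a ≠ b ∧ D.mulB k a = 1 ∧ D.mulB k b = 1 ∧
      (∀ φ, φ ≠ a → φ ≠ b → D.mulB k φ = 0) ∧ D.mulPsi a = 1 ∧ D.mulPsi b = 0 ∧
      D.mulOne a = 1 ∧ D.mulOne b = 1 ∧
      (k = 0 → charDegree (a : G → ℂ) = 27 ∧ charDegree (b : G → ℂ) = 1) ∧
      (k ≠ 0 → charDegree (a : G → ℂ) = 21 ∧ charDegree (b : G → ℂ) = 7) := by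
  classical
  have h := D.sum_mulB_sq k
  rw [if_pos hk] at h
  have hle : ∀ φ, D.mulB k φ ≤ 1 := fun φ => by
    by_contra hlt
    have h1 : D.mulB k φ * D.mulB k φ ≤ 2 := by
      rw [← h]; exact Finset.single_le_sum (f := fun φ => D.mulB k φ * D.mulB k φ)
        (fun _ _ => Nat.zero_le _) (Finset.mem_univ φ)
    have : 2 * 2 ≤ D.mulB k φ * D.mulB k φ := Nat.mul_le_mul (by omega) (by omega)
    omega
  set S := Finset.univ.filter fun φ => D.mulB k φ = 1
  have key : ∀ f : IrrCharacter G → ℕ, ∑ φ, D.mulB k φ * f φ = ∑ φ ∈ S, f φ := fun f => by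
    rw [Finset.sum_filter]
    refine Finset.sum_congr rfl fun φ _ => ?_
    have := hle φ
    interval_cases hh : D.mulB k φ <;> simp
  have hS : S.card = 2 := by
    rw [key] at h
    rw [Finset.card_eq_sum_ones, ← h]
    exact Finset.sum_congr rfl fun φ hφ => ((Finset.mem_filter.1 hφ).2).symm
  obtain ⟨x, y, hxy, hSxy⟩ := Finset.card_eq_two.1 hS
  have hd := D.sum_mulB_degree k
  have hm := D.sum_mulB_mulPsi k
  have hl := D.sum_mulB_mulOne k
  rw [key, hSxy, Finset.sum_pair hxy] at hd hm hl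
  obtain ⟨a, b, hab, hSab, hma, hmb⟩ : ∃ a b, a ≠ b ∧ S = {a, b} ∧ D.mulPsi a = 1 ∧
      D.mulPsi b = 0 := by
    rcases Nat.eq_zero_or_pos (D.mulPsi y) with h0 | h0
    · exact ⟨x, y, hxy, hSxy, by omega, h0⟩
    · exact ⟨y, x, hxy.symm, by rw [hSxy, Finset.pair_comm], by omega, by omega⟩
  have ha : D.mulB k a = 1 := by
    have : a ∈ S := by rw [hSab]; simp
    exact (Finset.mem_filter.1 this).2
  have hb : D.mulB k b = 1 := by
    have : b ∈ S := by rw [hSab]; simp
    exact (Finset.mem_filter.1 this).2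
  have hz : ∀ φ, φ ≠ a → φ ≠ b → D.mulB k φ = 0 := fun φ h1 h2 => by
    have h3 : φ ∉ S := by rw [hSab]; simp [h1, h2]
    have := hle φ
    simp only [S, Finset.mem_filter, Finset.mem_univ, true_and] at h3
    omega
  have hl' := D.sum_mulB_mulOne k
  have hd' := D.sum_mulB_degree k
  rw [key, hSab, Finset.sum_pair hab] at hl' hd'
  have h1 := D.mulB_le_mulOne hk8 a
  have h2 := D.mulB_le_mulOne hk8 b
  obtain ⟨j, hj⟩ := D.degree_shape b
  obtain ⟨i, hi⟩ := D.degree_shape a
  have hdvd := BC87.charDegree_dvd_card b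
  rw [D.card_G] at hdvd
  have hb7 : charDegree (b : G → ℂ) = 1 ∨ charDegree (b : G → ℂ) = 7 := by
    have hj3 : j ≤ 3 := by omega
    have he : charDegree (b : G → ℂ) = 1 + 6 * j := by omega
    rw [he] at hdvd ⊢
    interval_cases j <;> first | omega | (norm_num at hdvd)
  refine ⟨a, b, hab, ha, hb, hz, hma, hmb, by omega, by omega, fun hk0 => ?_, fun hk0 => ?_⟩
  · have ht := D.triv_mulB k
    rw [if_pos (by omega)] at ht
    have : BC87.triv G = a ∨ BC87.triv G = b := by
      by_contra hne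
      push Not at hne
      rw [hz _ hne.1 hne.2] at ht
      exact zero_ne_one ht
    rcases this with e | e
    · have : charDegree (a : G → ℂ) = 1 := by rw [← e]; exact BC87.charDegree_eq (by simp)
      omega
    · have : charDegree (b : G → ℂ) = 1 := by rw [← e]; exact BC87.charDegree_eq (by simp)
      omega
  · rcases hb7 with e | e
    · exfalso
      have := D.triv_mulB k
      rw [← D.eq_triv_of_degree_one b e, hb, if_neg (by omega)] at this
      exact one_ne_zero this
    · omega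

/-- Degree divisible by 14. -/
theorem exists_fourteen : ∃ χ : IrrCharacter G, 14 ∣ charDegree (χ : G → ℂ) := by
  obtain ⟨χ, -, -, h, -⟩ := D.odd_series (k := 1) (by decide)
  exact ⟨χ, by rw [h]; norm_num⟩

/-- Degree divisible by 21. -/
theorem exists_twentyOne : ∃ χ : IrrCharacter G, 21 ∣ charDegree (χ : G → ℂ) := by
  obtain ⟨a, b, -, -, -, -, -, -, -, -, -, h⟩ := D.even_series (k := 2) (by norm_num) (by decide)
  exact ⟨a, by rw [(h (by norm_num)).1]⟩

theorem congr_cusp {d m j : ℕ} (hd : d = 8 * m + 6 * j) (hdvd : d ∣ 6048) (h6 : ¬ 6 ∣ d) :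
    (48 : ℤ) ∣ (d : ℤ) ^ 2 - 14 * m * d := by
  have hco : Nat.Coprime d 27 := by
    have h3 : Nat.Coprime 3 d := (Nat.Prime.coprime_iff_not_dvd Nat.prime_three).2 fun h =>
      h6 (Nat.Coprime.mul_dvd_of_dvd_of_dvd (by norm_num : Nat.Coprime 2 3) (by omega) h)
    exact Nat.Coprime.pow_right 3 h3.symm
  have h224 : d ∣ 224 := hco.dvd_of_dvd_mul_right (by norm_num; exact hdvd)
  have hle : d ≤ 224 := Nat.le_of_dvd (by norm_num) h224
  rw [Int.dvd_iff_emod_eq_zero]
  interval_cases d <;> norm_num at h224 <;> omega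

/-- Degree divisible by 6. -/
theorem exists_six : ∃ χ : IrrCharacter G, 6 ∣ charDegree (χ : G → ℂ) := by
  classical
  by_contra hne
  push Not at hne
  let w : IrrCharacter G → ℤ := fun χ =>
    (charDegree (χ : G → ℂ) : ℤ) ^ 2 - 14 * D.mulPsi χ * charDegree (χ : G → ℂ)
  let coef : ℕ → ℤ := fun k => if Even k then 2 else 1
  have hw : ∀ χ, (96 : ℤ) ∣ 2 * w χ - ∑ k ∈ Finset.range 8, coef k * (D.mulB k χ * w χ) := by
    intro χ
    simp only [← mul_assoc, ← Finset.sum_mul]
    rw [← sub_mul]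
    rcases Nat.eq_zero_or_pos (D.mulOne χ) with h0 | h0
    · have hz : ∀ k ∈ Finset.range 8, (D.mulB k χ : ℤ) = 0 := fun k hk => by
        have := D.mulB_le_mulOne (Finset.mem_range.1 hk) χ
        omega
      rw [Finset.sum_eq_zero fun k hk => by rw [hz k hk, mul_zero], sub_zero]
      obtain ⟨j, hj⟩ := D.degree_shape χ
      have hdvd := BC87.charDegree_dvd_card χ
      rw [D.card_G] at hdvd
      exact (show (96 : ℤ) = 2 * 48 by norm_num) ▸ mul_dvd_mul_left 2
        (D.congr_cusp (m := D.mulPsi χ) (j := j) (by omega) hdvd (hne χ))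
    · have hs : ∑ k ∈ Finset.range 8, coef k * (D.mulB k χ : ℤ) = 2 := by
        have hl := D.mulOne_eq_sum χ
        by_cases he : ∃ k < 8, Even k ∧ 0 < D.mulB k χ
        · obtain ⟨k, hk, hek, hpos⟩ := he
          obtain ⟨a, b, -, ha, hb, hz, -, -, hla, hlb, -⟩ := D.even_series hk hek
          have h1 : D.mulOne χ = 1 ∧ D.mulB k χ = 1 := by
            rcases eq_or_ne χ a with rfl | hxa
            · exact ⟨hla, ha⟩
            · rcases eq_or_ne χ b with rfl | hxb
              · exact ⟨hlb, hb⟩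
              · exact absurd (hz χ hxa hxb) hpos.ne'
          have h2 := Finset.add_sum_erase (Finset.range 8) (fun i => D.mulB i χ)
            (Finset.mem_range.2 hk)
          simp only [← hl] at h2
          have h3 : ∑ i ∈ (Finset.range 8).erase k, D.mulB i χ = 0 := by omega
          rw [Finset.sum_eq_single k (fun i hi hik => by
            rw [Finset.sum_eq_zero_iff.1 h3 i (Finset.mem_erase.2 ⟨hik, hi⟩)]; simp)
            (by simp [Finset.mem_range.2 hk]), h1.2]
          simp [coef, hek]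
        · push Not at he
          obtain ⟨k, hk, hne0⟩ := Finset.exists_ne_zero_of_sum_ne_zero (hl ▸ h0.ne' :
            ∑ i ∈ Finset.range 8, D.mulB i χ ≠ 0)
          have hok : ¬ Even k := fun hek => hne0 (by
            have := he k (Finset.mem_range.1 hk) hek; omega)
          obtain ⟨c, hc, hz, -, -, hl2⟩ := D.odd_series hok
          have hχc : χ = c := by
            by_contra hxc
            exact hne0 (hz χ hxc)
          rw [hχc] at hl he ⊢
          have : ∀ i ∈ Finset.range 8, coef i * (D.mulB i c : ℤ) = (D.mulB i c : ℤ) := by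
            intro i hi
            by_cases hei : Even i
            · have := he i (Finset.mem_range.1 hi) hei
              rw [Nat.le_zero.1 this]; simp
            · simp [coef, hei]
          rw [Finset.sum_congr rfl this, ← Nat.cast_sum, ← hl, hl2]
          rfl
      rw [hs, sub_self, zero_mul]
      exact dvd_zero _
  have hsum := Finset.dvd_sum (s := Finset.univ) fun χ _ => hw χ
  rw [Finset.sum_sub_distrib, ← Finset.mul_sum, Finset.sum_comm] at hsum
  simp only [← Finset.mul_sum] at hsum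
  have hW : ∑ χ, w χ = 2912 := by
    simp only [w, Finset.sum_sub_distrib, mul_assoc, ← Finset.mul_sum]
    have h1 : ∑ χ : IrrCharacter G, ((charDegree (χ : G → ℂ) : ℤ)) ^ 2 = 6048 := by
      exact_mod_cast D.sum_sq
    have h2 : ∑ χ : IrrCharacter G, ((D.mulPsi χ : ℤ) * charDegree (χ : G → ℂ)) = 224 := by
      rw [Finset.sum_congr rfl fun χ _ => mul_comm _ _]
      exact_mod_cast D.sum_degree_mulPsi
    rw [h1, h2]; norm_num
  have hodd : ∀ k, ¬ Even k → ∑ χ, (D.mulB k χ : ℤ) * w χ = 392 := fun k hk => by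
    obtain ⟨c, hc, hz, hd, hm, -⟩ := D.odd_series hk
    rw [Finset.sum_eq_single c (fun φ _ hφ => by simp [hz φ hφ]) (by simp)]
    simp only [w, hc, hd, hm]
    norm_num
  have heven : ∀ k, k < 8 → Even k →
      ∑ χ, (D.mulB k χ : ℤ) * w χ = if k = 0 then 352 else 196 := fun k hk hek => by
    obtain ⟨a, b, hab, ha, hb, hz, hma, hmb, -, -, h0, h1⟩ := D.even_series hk hek
    rw [← Finset.sum_subset (Finset.subset_univ {a, b}) (fun φ _ hφ => by
      simp only [Finset.mem_insert, Finset.mem_singleton, not_or] at hφ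
      simp [hz φ hφ.1 hφ.2]), Finset.sum_pair hab]
    simp only [w, ha, hb, hma, hmb]
    split_ifs with hk0
    · rw [(h0 hk0).1, (h0 hk0).2]; norm_num
    · rw [(h1 hk0).1, (h1 hk0).2]; norm_num
  simp only [Finset.sum_range_succ, Finset.sum_range_zero] at hsum
  rw [heven 0 (by norm_num) (by decide), heven 2 (by norm_num) (by decide),
    heven 4 (by norm_num) (by decide), heven 6 (by norm_num) (by decide), hodd 1 (by decide),
    hodd 3 (by decide), hodd 5 (by decide), hodd 7 (by decide), hW] at hsum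
  simp only [coef, show Even 0 from Even.zero, show Even 2 by decide, show Even 4 by decide,
    show Even 6 by decide, show ¬ Even 1 by decide, show ¬ Even 3 by decide,
    show ¬ Even 5 by decide, show ¬ Even 7 by decide, if_true, if_false] at hsum
  norm_num at hsum

end Cfsg.Agent.UnitaryThree22.Datum
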