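import Cfsg.Agent.Lib.CharCore.Complete
import Cfsg.Agent.Lib.CharCore.Linear
import Cfsg.Agent.Lib.CharInd.Basic
import Cfsg.Agent.Lib.CharInd.Char
import Cfsg.Agent.Lib.CharClifford.Galois
import Cfsg.Agent.Lib.CharClifford.Central
import Cfsg.Agent.BC87.Basic
import Mathlib.RingTheory.RootsOfUnity.Complex
import Mathlib.Tactic.IntervalCases

/-!
# Degrees divisible by 6, 14 and 21 in a split rank one group of order 6048

The abstract setting of `SU₃(3)`: a subgroup `B` of order 216 with normal subgroup `U` of order 27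
and cyclic complement generated by `τ`, two double cosets `B`, `B w B`.  The characters
`Ind_B^G ρ^k` give degrees 28 and 21; a congruence modulo 48 among the remaining ones gives a
degree divisible by 6.
-/

set_option autoImplicit false
set_option linter.unusedSectionVars false

open scoped ComplexConjugate
open Cfsg

namespace Cfsg.Agent.UnitaryThree22

universe u

variable {G : Type u} [Group G]

/-- The configuration. -/
structure Datum (G : Type u) [Group G] where
  U : Subgroup G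
  B : Subgroup G
  w : G
  z : G
  tau : G
  ρ : B →* ℂˣ
  tau_mem : tau ∈ B
  card_G : Nat.card G = 6048
  card_B : Nat.card B = 216
  card_U : Nat.card U = 27
  order_tau : orderOf tau = 8
  U_le : U ≤ B
  ρ_eq_one : ∀ b : B, ρ b = 1 ↔ (b : G) ∈ U
  ρ_tau : IsPrimitiveRoot ((ρ ⟨tau, tau_mem⟩ : ℂˣ) : ℂ) 8
  inter : ∀ g : G, (g ∈ B ∧ w * g * w⁻¹ ∈ B) ↔ g ∈ Subgroup.zpowers tau
  w_tau : w * tau * w⁻¹ = tau ^ 5
  z_mem : z ∈ U
  z_ne : z ≠ 1
  z_pow : z ^ 3 = 1
  z_comm : ∀ x ∈ U, z * x = x * z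
  z_inv : tau * z * tau⁻¹ = z⁻¹
  z_commutator : ∃ x ∈ U, ∃ y ∈ U, x * y * x⁻¹ * y⁻¹ = z
  commutator_mem : ∀ x ∈ U, ∀ y ∈ U, x * y * x⁻¹ * y⁻¹ ∈ Subgroup.zpowers z
  transitive : ∀ x ∈ U, ∀ y ∈ U, x ∉ Subgroup.zpowers z → y ∉ Subgroup.zpowers z →
    ∃ i : ℕ, tau ^ i * x * (tau ^ i)⁻¹ * y⁻¹ ∈ Subgroup.zpowers z
  perfect : commutator G = ⊤

namespace Datum

variable [Fintype G] (D : Datum G)

/-- The linear characters of `B` trivial on `U`. -/
noncomputable def lam (k : ℕ) : D.B → ℂ := fun b => ((D.ρ b : ℂˣ) : ℂ) ^ k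

theorem lam_isIrr (k : ℕ) : IsIrrCharacter D.B (D.lam k) := by
  have h := CharCore.isIrrCharacter_hom (D.ρ ^ k)
  convert h using 1
  funext b
  simp [lam]

theorem lam_one (k : ℕ) : D.lam k 1 = 1 := by simp [lam]

theorem lam_of_mem (k : ℕ) {b : D.B} (hb : (b : G) ∈ D.U) : D.lam k b = 1 := by
  simp [lam, (D.ρ_eq_one b).2 hb]

theorem lam_isClass (k : ℕ) : IsClassFunction D.B (D.lam k) := fun g h => by
  simp [lam]

/-- The induced characters. -/
noncomputable def ser (k : ℕ) : G → ℂ := indFun D.B (D.lam k)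

theorem ser_isChar (k : ℕ) : IsCharacter G (D.ser k) :=
  CharInd.isCharacter_indFun D.B (CharCore.IsIrrCharacter.isCharacter (D.lam_isIrr k))

theorem ser_isClass (k : ℕ) : IsClassFunction G (D.ser k) :=
  CharInd.isClassFunction_indFun D.B _

theorem w_notMem : D.w ∉ D.B := by
  intro hw
  have : D.z ∈ Subgroup.zpowers D.tau :=
    (D.inter D.z).1 ⟨D.U_le D.z_mem, mul_mem (mul_mem hw (D.U_le D.z_mem)) (inv_mem hw)⟩
  obtain ⟨i, hi⟩ := (mem_powers_iff_mem_zpowers (x := D.tau)).2 this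
  have h1 : D.tau * D.z * D.tau⁻¹ = D.z := by
    rw [← hi]; group
  rw [D.z_inv] at h1
  have h2 : D.z ^ 2 = 1 := by rw [pow_two]; nth_rewrite 1 [← h1]; exact inv_mul_cancel _
  exact D.z_ne (by simpa [pow_succ, h2] using D.z_pow)

theorem zpowers_tau_le : Subgroup.zpowers D.tau ≤ D.B :=
  Subgroup.zpowers_le.2 D.tau_mem

theorem inter_eq_one {g : G} (hg : g ∈ D.U) (hT : g ∈ Subgroup.zpowers D.tau) : g = 1 := by
  have h1 : orderOf g ∣ 8 := D.order_tau ▸ orderOf_dvd_of_mem_zpowers hT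
  have h2 : orderOf g ∣ 27 := by
    rw [← D.card_U]; exact Subgroup.orderOf_dvd_natCard _ hg
  exact orderOf_eq_one_iff.1 (Nat.eq_one_of_dvd_coprimes (by norm_num) h1 h2)

open scoped Classical in
theorem sum_split (F : G → ℂ) :
    ∑ x : G, F x = ∑ b : D.B, F b + (8 : ℂ)⁻¹ * ∑ c : D.B, ∑ d : D.B, F ((c : G) * D.w * d) := by
  let Φ : D.B × D.B → G := fun p => (p.1 : G) * D.w * p.2
  have hnot : ∀ p, Φ p ∉ D.B := fun p hp => D.w_notMem (by
    have := mul_mem (mul_mem (inv_mem p.1.2) hp) (inv_mem p.2.2)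
    simpa [Φ, mul_assoc] using this)
  have hfib : ∀ p₀ : D.B × D.B,
      (Finset.univ.filter fun p => Φ p = Φ p₀).card = 8 := by
    intro p₀
    have hT : Nat.card (Subgroup.zpowers D.tau) = 8 := by rw [Nat.card_zpowers, D.order_tau]
    rw [← hT, Nat.card_eq_fintype_card, ← Finset.card_univ]
    have hmem : ∀ t : Subgroup.zpowers D.tau,
        (t : G) ∈ D.B ∧ D.w * t * D.w⁻¹ ∈ D.B := fun t => (D.inter t).2 t.2
    symm
    refine Finset.card_bij (fun t _ => (p₀.1 * ⟨_, (hmem t).2⟩, ⟨_, (hmem t).1⟩⁻¹ * p₀.2))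
      (fun t _ => ?_) (fun t _ t' _ h => ?_) (fun p hp => ?_)
    · simp [Φ, mul_assoc]
    · have := congrArg (fun q : D.B × D.B => (q.1 : G)) h
      simpa using this
    · have h : (p.1 : G) * D.w * p.2 = p₀.1 * D.w * p₀.2 := by simpa [Φ] using hp
      have e : D.w * ((p₀.2 : G) * (p.2 : G)⁻¹) * D.w⁻¹ = (p₀.1 : G)⁻¹ * p.1 := by
        have : (p.1 : G) = p₀.1 * D.w * p₀.2 * (p.2 : G)⁻¹ * D.w⁻¹ := by rw [← h]; group
        rw [this]; group
      have ht : (p₀.2 : G) * (p.2 : G)⁻¹ ∈ Subgroup.zpowers D.tau :=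
        (D.inter _).1 ⟨mul_mem p₀.2.2 (inv_mem p.2.2), by
          rw [e]; exact mul_mem (inv_mem p₀.1.2) p.1.2⟩
      refine ⟨⟨_, ht⟩, Finset.mem_univ _, Prod.ext (Subtype.ext ?_) (Subtype.ext ?_)⟩
      · simp [e]
      · simp
  have himg : Finset.univ.image Φ = Finset.univ.filter (fun x => x ∉ D.B) := by
    refine Finset.eq_of_subset_of_card_le (fun x hx => ?_) ?_
    · obtain ⟨p, -, rfl⟩ := Finset.mem_image.1 hx
      simpa using hnot p
    · have h1 := Finset.card_eq_sum_card_image Φ (Finset.univ : Finset (D.B × D.B))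
      rw [Finset.sum_congr rfl (g := fun _ => 8) (fun x hx => by
        obtain ⟨p, -, rfl⟩ := Finset.mem_image.1 hx
        exact hfib p), Finset.sum_const, smul_eq_mul, Finset.card_univ, Fintype.card_prod,
        ← Nat.card_eq_fintype_card, D.card_B] at h1
      have h2 : (Finset.univ.filter fun x => x ∈ D.B).card = 216 := by
        rw [← D.card_B, Nat.card_eq_fintype_card]
        exact (Fintype.card_subtype _).symm
      have h3 := Finset.card_filter_add_card_filter_not (s := (Finset.univ : Finset G))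
        (fun x => x ∈ D.B)
      rw [h2, Finset.card_univ, ← Nat.card_eq_fintype_card, D.card_G] at h3
      omega
  have hsum : ∑ c : D.B, ∑ d : D.B, F ((c : G) * D.w * d) =
      8 * ∑ x ∈ Finset.univ.filter (fun x => x ∉ D.B), F x := by
    rw [← Fintype.sum_prod_type', ← himg, Finset.mul_sum,
      ← Finset.sum_fiberwise_of_maps_to (g := Φ) (t := Finset.univ.image Φ)
        (fun p _ => Finset.mem_image_of_mem Φ (Finset.mem_univ p))]
    refine Finset.sum_congr rfl fun x hx => ?_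
    obtain ⟨p, -, rfl⟩ := Finset.mem_image.1 hx
    rw [Finset.sum_congr rfl (g := fun _ => F (Φ p))
      (fun q hq => congrArg F (Finset.mem_filter.1 hq).2), Finset.sum_const, hfib, nsmul_eq_mul]
    norm_num
  rw [hsum, ← mul_assoc, inv_mul_cancel₀ (by norm_num : (8 : ℂ) ≠ 0), one_mul,
    ← Finset.sum_filter_add_sum_filter_not Finset.univ (fun x => x ∈ D.B),
    Finset.sum_subtype (p := fun x => x ∈ D.B) _ (fun x => by simp)]

theorem sum_zpowers (f : G → ℂ) :
    ∑ t : Subgroup.zpowers D.tau, f t = ∑ i ∈ Finset.range 8, f (D.tau ^ i) := by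
  rw [← Equiv.sum_comp (finEquivZPowers (isOfFinOrder_of_finite D.tau)) (fun t => f t),
    ← D.order_tau, ← Fin.sum_univ_eq_sum_range (fun i => f (D.tau ^ i))]
  rfl

theorem lam_tau_pow (k i : ℕ) (h : D.tau ^ i ∈ D.B) :
    D.lam k ⟨D.tau ^ i, h⟩ = ((D.ρ ⟨D.tau, D.tau_mem⟩ : ℂˣ) : ℂ) ^ (i * k) := by
  rw [lam, show (⟨D.tau ^ i, h⟩ : D.B) = ⟨D.tau, D.tau_mem⟩ ^ i from rfl, map_pow,
    Units.val_pow_eq_pow_val, ← pow_mul]

theorem sum_rho (e : ℕ) :
    ∑ i ∈ Finset.range 8, (((D.ρ ⟨D.tau, D.tau_mem⟩ : ℂˣ) : ℂ) ^ e) ^ i =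
      if 8 ∣ e then 8 else 0 := by
  split_ifs with h
  · rw [(D.ρ_tau.pow_eq_one_iff_dvd e).2 h]; simp
  · have h1 : ((((D.ρ ⟨D.tau, D.tau_mem⟩ : ℂˣ) : ℂ) ^ e) ^ 8) = 1 := by
      rw [← pow_mul, mul_comm, pow_mul, D.ρ_tau.pow_eq_one, one_pow]
    rw [geom_sum_eq (mt (D.ρ_tau.pow_eq_one_iff_dvd e).1 h), h1, sub_self, zero_div]

theorem conj_rho_pow (e : ℕ) :
    conj ((((D.ρ ⟨D.tau, D.tau_mem⟩ : ℂˣ) : ℂ)) ^ e) =
      ((D.ρ ⟨D.tau, D.tau_mem⟩ : ℂˣ) : ℂ) ^ (7 * e) := by
  have h1 : ‖((D.ρ ⟨D.tau, D.tau_mem⟩ : ℂˣ) : ℂ)‖ = 1 :=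
    Complex.norm_eq_one_of_pow_eq_one D.ρ_tau.pow_eq_one (by norm_num)
  have h8 := D.ρ_tau.pow_eq_one
  rw [map_pow, ← Complex.inv_eq_conj h1, pow_mul]
  congr 1
  refine inv_eq_of_mul_eq_one_right ?_
  rw [← pow_succ', h8]

theorem rho_pow_eight (b : D.B) : ((D.ρ b : ℂˣ) : ℂ) ^ 8 = 1 := by
  have hker : Nat.card D.ρ.ker = 27 := by
    rw [← D.card_U]
    refine Nat.card_congr ⟨fun x => ⟨(x : D.B), (D.ρ_eq_one _).1 x.2⟩,
      fun x => ⟨⟨x, D.U_le x.2⟩, (D.ρ_eq_one _).2 x.2⟩, fun x => rfl, fun x => rfl⟩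
  have hr : Nat.card D.ρ.range = 8 := by
    have h := Subgroup.card_eq_card_quotient_mul_card_subgroup D.ρ.ker
    rw [Nat.card_congr (QuotientGroup.quotientKerEquivRange D.ρ).toEquiv, hker, D.card_B] at h
    omega
  have h := pow_card_eq_one' (x := (⟨D.ρ b, b, rfl⟩ : D.ρ.range))
  rw [hr] at h
  exact congrArg (fun u : D.ρ.range => ((u : ℂˣ) : ℂ)) h

open scoped Classical in
/-- Mackey for the two double cosets. -/
theorem inner_ser (k l : ℕ) :
    classInner (D.ser k) (D.ser l) =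
      (if k % 8 = l % 8 then 1 else 0) + (if 5 * k % 8 = l % 8 then 1 else 0) := by
  rw [ser, CharInd.classInner_indFun_left _ _ (D.ser_isClass l), classInner, D.card_B]
  have hμ : ∀ b : D.B, conj (D.ser l b) = conj (D.lam l b) + (216 : ℂ)⁻¹ * ((8 : ℂ)⁻¹ *
      ∑ c : D.B, ∑ d : D.B,
        conj (extendByZero D.B (D.lam l) (((c : G) * D.w * d)⁻¹ * b * ((c : G) * D.w * d)))) := by
    intro b
    rw [ser, CharInd.indFun_apply, D.sum_split, D.card_B, map_mul, map_add, map_mul, map_inv₀,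
      map_inv₀, map_natCast, map_sum, map_sum, show conj (8 : ℂ) = 8 from map_ofNat _ 8]
    have e : ∀ c : D.B, conj (extendByZero D.B (D.lam l) ((c : G)⁻¹ * b * c)) =
        conj (D.lam l b) := fun c => by
      rw [show ((c : G)⁻¹ * b * c) = ((c⁻¹ : D.B) : G) * b * ((c⁻¹ : D.B) : G)⁻¹ by simp,
        CharInd.extendByZero_conj_mem (D.lam_isClass l), CharInd.extendByZero_coe]
    rw [Finset.sum_congr rfl (fun c _ => e c), Finset.sum_const, Finset.card_univ,
      ← Nat.card_eq_fintype_card, D.card_B, nsmul_eq_mul, mul_add]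
    simp only [map_sum]
    push_cast
    field_simp
  simp only [hμ, mul_add, Finset.sum_add_distrib, Finset.mul_sum]
  have key : ∀ c d : D.B, ∑ b : D.B, D.lam k b *
      conj (extendByZero D.B (D.lam l) (((c : G) * D.w * d)⁻¹ * b * ((c : G) * D.w * d))) =
      if 5 * k % 8 = l % 8 then 8 else 0 := by
    intro c d
    have e1 : ∑ b : D.B, D.lam k b *
        conj (extendByZero D.B (D.lam l) (((c : G) * D.w * d)⁻¹ * b * ((c : G) * D.w * d))) =
        ∑ b : D.B, D.lam k b * conj (extendByZero D.B (D.lam l) (D.w⁻¹ * b * D.w)) := by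
      refine Fintype.sum_equiv ((Equiv.mulLeft c⁻¹).trans (Equiv.mulRight c)) _ _ fun b => ?_
      simp only [Equiv.trans_apply, Equiv.coe_mulLeft, Equiv.coe_mulRight]
      congr 1
      · have := D.lam_isClass k b c⁻¹
        rw [inv_inv] at this
        exact this.symm
      · congr 1
        rw [show ((c : G) * D.w * d)⁻¹ * b * ((c : G) * D.w * d) =
          ((d⁻¹ : D.B) : G) * (D.w⁻¹ * ((c⁻¹ * b * c : D.B) : G) * D.w) *
            ((d⁻¹ : D.B) : G)⁻¹ by simp [mul_assoc],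
          CharInd.extendByZero_conj_mem (D.lam_isClass l)]
    rw [e1]
    have e2 : ∑ b : D.B, D.lam k b * conj (extendByZero D.B (D.lam l) (D.w⁻¹ * b * D.w)) =
        ∑ t : Subgroup.zpowers D.tau, extendByZero D.B (D.lam k) (D.w * t * D.w⁻¹) *
          conj (extendByZero D.B (D.lam l) t) := by
      rw [← Finset.sum_filter_of_ne (p := fun b : D.B => D.w⁻¹ * b * D.w ∈ D.B) (fun b _ hb => by
        by_contra h
        exact hb (by rw [CharInd.extendByZero_notMem _ h, map_zero, mul_zero]))]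
      have hm : ∀ b : D.B, D.w⁻¹ * b * D.w ∈ D.B →
          D.w⁻¹ * b * D.w ∈ Subgroup.zpowers D.tau := fun b hb =>
        (D.inter _).1 ⟨hb, by simpa [mul_assoc] using b.2⟩
      refine Finset.sum_bij' (fun b hb => ⟨_, hm b (by simpa using hb)⟩)
        (fun t _ => ⟨D.w * t * D.w⁻¹, ((D.inter t).2 t.2).2⟩) (fun b _ => Finset.mem_univ _)
        (fun t _ => ?_) (fun b _ => ?_) (fun t _ => ?_) (fun b _ => ?_)
      · simpa [mul_assoc] using ((D.inter t).2 t.2).1
      · exact Subtype.ext (by simp [mul_assoc])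
      · exact Subtype.ext (by simp [mul_assoc])
      · show _ = extendByZero D.B (D.lam k) (D.w * (D.w⁻¹ * (b : G) * D.w) * D.w⁻¹) * _
        rw [show D.w * (D.w⁻¹ * (b : G) * D.w) * D.w⁻¹ = b by group, CharInd.extendByZero_coe]
    rw [e2, D.sum_zpowers (fun t => extendByZero D.B (D.lam k) (D.w * t * D.w⁻¹) *
      conj (extendByZero D.B (D.lam l) t))]
    have e3 : ∀ i, extendByZero D.B (D.lam k) (D.w * D.tau ^ i * D.w⁻¹) *
        conj (extendByZero D.B (D.lam l) (D.tau ^ i)) =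
        (((D.ρ ⟨D.tau, D.tau_mem⟩ : ℂˣ) : ℂ) ^ (5 * k + 7 * l)) ^ i := fun i => by
      rw [← conj_pow, D.w_tau, ← pow_mul, CharInd.extendByZero_mem _ (pow_mem D.tau_mem _),
        CharInd.extendByZero_mem _ (pow_mem D.tau_mem _), lam_tau_pow, lam_tau_pow, conj_rho_pow,
        ← pow_add, ← pow_mul]
      congr 1; ring
    simp only [e3, sum_rho]
    exact if_congr (by omega) rfl rfl
  congr 1
  · have := CharCore.classInner_irr (G := D.B) ⟨_, D.lam_isIrr k⟩ ⟨_, D.lam_isIrr l⟩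
    rw [classInner, D.card_B] at this
    rw [← Finset.mul_sum, this]
    refine if_congr ⟨fun h => ?_, fun h => ?_⟩ rfl rfl
    · have h1 := congrFun (congrArg Subtype.val h) ⟨D.tau ^ 1, pow_mem D.tau_mem 1⟩
      simp only [lam_tau_pow, one_mul] at h1
      have h0 := D.ρ_tau.pow_eq_one
      rw [← Nat.div_add_mod k 8, ← Nat.div_add_mod l 8, pow_add, pow_add, pow_mul, pow_mul, h0,
        one_pow, one_pow, one_mul, one_mul] at h1
      exact D.ρ_tau.pow_inj (Nat.mod_lt _ (by norm_num)) (Nat.mod_lt _ (by norm_num)) h1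
    · refine Subtype.ext (funext fun b => ?_)
      have hb := D.rho_pow_eight b
      show ((D.ρ b : ℂˣ) : ℂ) ^ k = ((D.ρ b : ℂˣ) : ℂ) ^ l
      rw [pow_eq_pow_mod k hb, pow_eq_pow_mod l hb, h]
  · calc _ = (216 : ℂ)⁻¹ * ((216 : ℂ)⁻¹ * (8 : ℂ)⁻¹) * ∑ c : D.B, ∑ d : D.B, ∑ b : D.B,
          (D.lam k b * conj (extendByZero D.B (D.lam l)
            (((c : G) * D.w * d)⁻¹ * b * ((c : G) * D.w * d)))) := by
            simp only [Finset.mul_sum]
            rw [Finset.sum_comm]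
            refine Finset.sum_congr rfl fun c _ => ?_
            rw [Finset.sum_comm]
            refine Finset.sum_congr rfl fun d _ => Finset.sum_congr rfl fun b _ => ?_
            push_cast
            ring
      _ = _ := by
        rw [Finset.sum_congr rfl (fun c _ => Finset.sum_congr rfl fun d _ => key c d)]
        simp only [Finset.sum_const, Finset.card_univ, ← Nat.card_eq_fintype_card, D.card_B,
          nsmul_eq_mul]
        split_ifs <;> norm_num

end Datum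

end Cfsg.Agent.UnitaryThree22
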